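import Cfsg.Agent.Lib.Fi23P.PermLevels

/-!
Kernel check of the levels.
-/

set_option autoImplicit false
set_option maxRecDepth 100000

namespace CfsgLib.Fi23P

open CfsgLib.PresCert Cfsg.Spor

/-- A level by number. -/
def lev (k : ℕ) : Fast.Level := levels.getD k ⟨0, [], [], []⟩

/-- The fixed points before a level. -/
def fixedBefore (k : ℕ) : List ℕ := [0, 52] ++ (levels.take k).map Fast.Level.base

theorem lev_ok0 : Fast.levelOk tab (fixedBefore 0) (lev 0) = true := by decide +kernel

theorem lev_ok1 : Fast.levelOk tab (fixedBefore 1) (lev 1) = true := by decide +kernel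

theorem lev_ok2 : Fast.levelOk tab (fixedBefore 2) (lev 2) = true := by decide +kernel

theorem lev_ok3 : Fast.levelOk tab (fixedBefore 3) (lev 3) = true := by decide +kernel

theorem lev_ok4 : Fast.levelOk tab (fixedBefore 4) (lev 4) = true := by decide +kernel

theorem lev_ok5 : Fast.levelOk tab (fixedBefore 5) (lev 5) = true := by decide +kernel

theorem lev_ok6 : Fast.levelOk tab (fixedBefore 6) (lev 6) = true := by decide +kernel

theorem lev_ok7 : Fast.levelOk tab (fixedBefore 7) (lev 7) = true := by decide +kernel

theorem levels_eq : levels = [lev 0, lev 1, lev 2, lev 3, lev 4, lev 5, lev 6, lev 7] := rfl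

theorem fixed_eq : fixedBefore 0 = [0, 52] ∧
    ∀ k < 7, fixedBefore k ++ [(lev k).base] = fixedBefore (k + 1) := by
  decide +kernel

theorem levels_check : Fast.levelsOk tab [0, 52] levels = true := by
  obtain ⟨e, h⟩ := fixed_eq
  rw [levels_eq, ← e]
  simp only [Fast.levelsOk, h 0 (by norm_num), h 1 (by norm_num), h 2 (by norm_num),
    h 3 (by norm_num), h 4 (by norm_num), h 5 (by norm_num), h 6 (by norm_num), lev_ok0, lev_ok1,
    lev_ok2, lev_ok3, lev_ok4, lev_ok5, lev_ok6, lev_ok7, Bool.and_true, Nat.reduceAdd]

theorem levels_ok : Fast.levelsOk tab [0, 52] levels = true ∧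
    3510 * (levels.map fun l => l.pts.length).prod = 129123503308800 ∧
    baseL = [0, 52] ++ levels.map Fast.Level.base :=
  ⟨levels_check, levels_count⟩

end CfsgLib.Fi23P
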