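import Cfsg.Agent.Lib.Fi23P.PermDefs

/-!
Kernel checks of the action on 31671 points, part 1.
-/

set_option autoImplicit false
set_option maxRecDepth 100000

namespace CfsgLib.Fi23P

open CfsgLib.PresCert Cfsg.Spor

theorem check_block4 : checkBlock 4 = true := by decide +kernel

theorem check_block5 : checkBlock 5 = true := by decide +kernel

theorem check_block6 : checkBlock 6 = true := by decide +kernel

theorem check_block7 : checkBlock 7 = true := by decide +kernel

end CfsgLib.Fi23P
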