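import Cfsg.Agent.Lib.Fi23P.PermDefs

/-!
Kernel checks of the action on 31671 points, part 2.
-/

set_option autoImplicit false
set_option maxRecDepth 100000

namespace CfsgLib.Fi23P

open CfsgLib.PresCert Cfsg.Spor

theorem check_block8 : checkBlock 8 = true := by decide +kernel

theorem check_block9 : checkBlock 9 = true := by decide +kernel

theorem check_block10 : checkBlock 10 = true := by decide +kernel

theorem check_block11 : checkBlock 11 = true := by decide +kernel

end CfsgLib.Fi23P
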