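import Cfsg.Agent.Lib.Fi23P.PermDefs

/-!
Kernel checks of the action on 31671 points, part 3.
-/

set_option autoImplicit false
set_option maxRecDepth 100000

namespace CfsgLib.Fi23P

open CfsgLib.PresCert Cfsg.Spor

theorem check_block12 : checkBlock 12 = true := by decide +kernel

theorem check_block13 : checkBlock 13 = true := by decide +kernel

theorem check_block14 : checkBlock 14 = true := by decide +kernel

theorem check_block15 : checkBlock 15 = true := by decide +kernel

end CfsgLib.Fi23P
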