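import Cfsg.Agent.Lib.Fi23P.PermDefs

/-!
Kernel checks of the action on 31671 points, part 4.
-/

set_option autoImplicit false
set_option maxRecDepth 100000

namespace CfsgLib.Fi23P

open CfsgLib.PresCert Cfsg.Spor

theorem check_block16 : checkBlock 16 = true := by decide +kernel

theorem check_block17 : checkBlock 17 = true := by decide +kernel

theorem check_block18 : checkBlock 18 = true := by decide +kernel

theorem check_block19 : checkBlock 19 = true := by decide +kernel

end CfsgLib.Fi23P
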