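import Cfsg.Agent.Lib.Fi23P.PermDefs

/-!
Kernel checks of the action on 31671 points, part 6.
-/

set_option autoImplicit false
set_option maxRecDepth 100000

namespace CfsgLib.Fi23P

open CfsgLib.PresCert Cfsg.Spor

theorem check_block24 : checkBlock 24 = true := by decide +kernel

theorem check_block25 : checkBlock 25 = true := by decide +kernel

theorem check_block26 : checkBlock 26 = true := by decide +kernel

theorem check_block27 : checkBlock 27 = true := by decide +kernel

end CfsgLib.Fi23P
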