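import Cfsg.Agent.Lib.Fi23P.PermDefs

/-!
Kernel checks of the action on 31671 points, part 7.
-/

set_option autoImplicit false
set_option maxRecDepth 100000

namespace CfsgLib.Fi23P

open CfsgLib.PresCert Cfsg.Spor

theorem check_block28 : checkBlock 28 = true := by decide +kernel

theorem check_block29 : checkBlock 29 = true := by decide +kernel

theorem check_block30 : checkBlock 30 = true := by decide +kernel

theorem check_block31 : checkBlock 31 = true := by decide +kernel

end CfsgLib.Fi23P
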