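import Cfsg.Agent.Lib.Fi23P.Order
import Cfsg.Agent.Lib.Fi23P.PermBase
import Cfsg.Agent.Lib.Fi23P.PermCheck0
import Cfsg.Agent.Lib.Fi23P.PermCheck1
import Cfsg.Agent.Lib.Fi23P.PermCheck2
import Cfsg.Agent.Lib.Fi23P.PermCheck3
import Cfsg.Agent.Lib.Fi23P.PermCheck4
import Cfsg.Agent.Lib.Fi23P.PermCheck5
import Cfsg.Agent.Lib.Fi23P.PermCheck6
import Cfsg.Agent.Lib.Fi23P.PermCheck7

/-!
The action on 31671 points: the order, the point stabiliser and simplicity.
-/

set_option autoImplicit false
set_option maxRecDepth 100000

namespace CfsgLib.Fi23P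

open CfsgLib.PresCert Cfsg.Spor
open CfsgLib.PresCert.Fast

attribute [local irreducible] relShort levels wordA rootWords baseL

theorem check_all {b : ℕ} (hb : 1000 * b < tab.n) : checkBlock b = true := by
  have hb' : b < 32 := by
    have : tab.n = 31671 := rfl
    omega
  interval_cases b
  exacts [check_block0, check_block1, check_block2, check_block3, check_block4, check_block5, check_block6, check_block7, check_block8, check_block9, check_block10, check_block11, check_block12, check_block13, check_block14, check_block15, check_block16, check_block17, check_block18, check_block19, check_block20, check_block21, check_block22, check_block23, check_block24, check_block25, check_block26, check_block27, check_block28, check_block29, check_block30, check_block31]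

theorem tabInv : tab.Inv := fun b hb => by
  have h := check_all hb
  simp only [checkBlock, Bool.and_eq_true] at h
  exact h.1.1.1

theorem rel_at {i : ℕ} (hi : i < tab.n) : relAt i = true := by
  have h := check_all (b := i / 1000) (by omega)
  simp only [checkBlock, Bool.and_eq_true, relBlock, List.all_eq_true, List.mem_range,
    Bool.or_eq_true, Bool.not_eq_true'] at h
  have h' := h.1.1.2 (i % 1000) (Nat.mod_lt _ (by norm_num))
  rw [Nat.div_add_mod] at h'
  refine h'.resolve_left fun e => ?_
  rw [Nat.blt_eq.mpr hi] at e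
  exact Bool.noConfusion e

theorem walk_append (i : ℕ) (a b : List ℕ) : tab.walk i (a ++ b) = tab.walk (tab.walk i a) b := by
  induction a generalizing i with
  | nil => rfl
  | cons g a ih => exact ih _

theorem walk_lt {w : List ℕ} (hw : ∀ g ∈ w, g < tab.ng) :
    ∀ {i : ℕ}, i < tab.n → tab.walk i w < tab.n := by
  induction w with
  | nil => exact fun h => h
  | cons g w ih =>
    exact fun h => ih (fun a ha => hw a (List.mem_cons_of_mem _ ha))
      (tabInv.spec (hw g List.mem_cons_self) h).1

theorem iterate_walk {w : List ℕ} (hw : ∀ g ∈ w, g < tab.ng) (f : ℕ → ℕ)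
    (hf : ∀ i < tab.n, f i = tab.walk i w) :
    ∀ (k : ℕ) {i : ℕ}, i < tab.n → tab.walk i (List.replicate k w).flatten = f^[k] i
  | 0, i, _ => rfl
  | k + 1, i, hi => by
    rw [List.replicate_succ, List.flatten_cons, walk_append,
      iterate_walk hw f hf k (walk_lt hw hi), Function.iterate_succ_apply, hf i hi]

theorem relData_fix {w : List ℕ} (hw : w ∈ relData) : ∀ i < tab.n, tab.walk i w = i := by
  intro i hi
  have h := rel_at hi
  simp only [relAt, fwalk_eq, Bool.and_eq_true, List.all_eq_true, Nat.beq_eq] at h
  obtain ⟨⟨⟨⟨⟨h1, -⟩, -⟩, h4⟩, -⟩, h6⟩ := h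
  have hspec : ∀ j < tab.n, colU j = tab.walk j wordU ∧ colU2 j = colU (colU j) ∧
      colV j = tab.walk j wordV := fun j hj => by
    have h' := rel_at hj
    simp only [relAt, fwalk_eq, Bool.and_eq_true, Nat.beq_eq] at h'
    exact ⟨h'.1.1.1.1.2, h'.1.1.1.2, h'.1.2⟩
  have hU : ∀ g ∈ wordU, g < tab.ng := by decide
  have hV : ∀ g ∈ wordV, g < tab.ng := by decide
  simp only [relData, List.mem_append, List.mem_cons, List.not_mem_nil, or_false] at hw
  rcases hw with hw | rfl | rfl
  · exact h1 w hw
  · rw [iterate_walk hU colU (fun j hj => (hspec j hj).1) 10 hi]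
    have key : ∀ (k : ℕ), ∀ j < tab.n, colU2^[k] j = colU^[2 * k] j := by
      intro k
      induction k with
      | zero => intros; rfl
      | succ k ih =>
        intro j hj
        have hlt : colU2 j < tab.n := by
          have hl1 : colU j < tab.n := by rw [(hspec j hj).1]; exact walk_lt hU hj
          rw [(hspec j hj).2.1, (hspec _ hl1).1]
          exact walk_lt hU hl1
        rw [Function.iterate_succ_apply, ih _ hlt, (hspec j hj).2.1,
          show 2 * (k + 1) = 2 * k + 1 + 1 by ring, Function.iterate_succ_apply,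
          Function.iterate_succ_apply]
    rw [← key 5 i hi, h4]
  · rw [iterate_walk hV colV (fun j hj => (hspec j hj).2.2) 9 hi, h6]

theorem perm_rels : ∀ w ∈ fiData.rels, act (tab.perm tabInv) w = 1 :=
  Fast.perm_rels tabInv (P := fiData) rfl rels_covered fun _ hw => relData_fix hw

/-- The action on 31671 points. -/
noncomputable def phi : Cfsg.Spor.Fi23 →* Equiv.Perm (Fin tab.n) := Fast.toPerm tabInv perm_rels

theorem realised : Fast.Realised fiGen tab phi := Fast.realised_toPerm tabInv fi_ok rfl perm_rels

theorem tree_ok : ∀ b, 1000 * b < tab.n → Fast.treeBlock tab treePar b = true := fun b hb => by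
  have h := check_all hb
  simp only [checkBlock, Bool.and_eq_true] at h
  exact h.1.2

theorem forest_ok : Fast.ForestOk tab forest := ⟨forest_shape, fun b hb => by
  have h := check_all hb
  simp only [checkBlock, Bool.and_eq_true] at h
  exact h.2⟩

theorem tab_n : tab.n = 31671 := rfl

theorem zero_lt : 0 < tab.n := by rw [tab_n]; norm_num

/-- The subgroup of index 31671. -/
def subH : Subgroup Cfsg.Spor.Fi23 := genGrp sH fiGen

theorem subH_words : subH = genGrp forest.words fiGen := rfl

theorem subH_le : subH ≤ fixSub phi [0] := by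
  refine (Subgroup.closure_le _).2 ?_
  rintro _ ⟨w, hw, rfl⟩
  intro i hi
  have h := letters_fix
  simp only [List.all_eq_true, Bool.and_eq_true, Nat.blt_eq, Nat.beq_eq] at h
  refine Fin.ext ?_
  rw [realised.act_apply (h w hw).2, List.mem_singleton.1 hi, (h w hw).1]

theorem filter_sum (p : ℕ → Bool) : ∀ m : ℕ, ((List.range (1000 * m)).filter p).length =
    ((List.range m).map fun b => ((List.range 1000).filter fun j => p (1000 * b + j)).length).sum
  | 0 => rfl
  | m + 1 => by
    rw [Nat.mul_succ, List.range_add, List.filter_append, List.length_append, filter_sum p m,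
      List.range_succ (n := m), List.map_append, List.sum_append, List.filter_map, List.length_map]
    simp [Function.comp_def]

theorem forest_count {k : ℕ} (hk : k < 3) :
    ((List.range tab.n).filter fun q => Nat.beq (forest.lab q) k).length =
      [1, 3510, 28160].getD k 0 := by
  have h1 : ((List.range tab.n).filter fun q => Nat.beq (forest.lab q) k).length =
      ((List.range (1000 * 32)).filter fun q =>
        Nat.blt q 31671 && Nat.beq (forest.lab q) k).length := by
    rw [tab_n, show 1000 * 32 = 31671 + 329 from rfl, List.range_add, List.filter_append,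
      List.length_append,
      show ((List.range 329).map (31671 + ·)).filter (fun q => Nat.blt q 31671 &&
          Nat.beq (forest.lab q) k) = [] from List.filter_eq_nil_iff.2 (by
        intro a ha
        obtain ⟨j, -, rfl⟩ := List.mem_map.1 ha
        simp),
      List.length_nil, add_zero]
    refine congrArg _ (List.filter_congr fun q hq => ?_)
    rw [List.mem_range] at hq
    rw [Nat.blt_eq.mpr hq, Bool.true_and]
  rw [h1, filter_sum, ← lab_count, List.getD_eq_getElem _ _ (by simpa using hk)]
  simp only [List.getElem_map, List.getElem_range]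
  exact congrArg List.sum (List.map_congr_left fun b _ => rfl)

theorem fix_lower : 3510 * Nat.card (fixSub phi [0, 52]) ≤ Nat.card (fixSub phi [0]) := by
  haveI := fi_le.1
  classical
  have h52 : 52 < tab.n := by rw [tab_n]; norm_num
  set q : Fin tab.n := ⟨52, h52⟩
  set O := {r : Fin tab.n | ∃ m ∈ genGrp forest.words fiGen, phi m q = r}
  have hO : Nat.card O = 3510 := by
    rw [Nat.card_coe_set_eq, forest_ok.orbit_card realised q,
      show forest.lab q.val = 1 from forest_zero.2.2.2, forest_count (by norm_num)]
    rfl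
  choose h hh hq using fun r : O => r.2
  let f : O × fixSub phi [0, 52] → fixSub phi [0] := fun x =>
    ⟨h x.1 * x.2.1, Subgroup.mul_mem _ (subH_le (hh x.1))
      (fixSub_le (fun y hy => by simp_all) x.2.2)⟩
  have hf : Function.Injective f := by
    intro a b e
    have e1 : h a.1 * a.2.1 = h b.1 * b.2.1 := congrArg Subtype.val e
    have e2 : a.1 = b.1 := by
      refine Subtype.ext ?_
      have e3 := Equiv.congr_fun (congrArg phi e1) q
      rw [map_mul, map_mul, Equiv.Perm.mul_apply, Equiv.Perm.mul_apply,
        a.2.2 q (by simp [q]), b.2.2 q (by simp [q]), hq, hq] at e3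
      exact e3
    rw [e2] at e1
    exact Prod.ext e2 (Subtype.ext (mul_left_cancel e1))
  have h2 := Nat.card_le_card_of_injective f hf
  rwa [Nat.card_prod, hO] at h2

theorem card_all : Finite Cfsg.Spor.Fi23 ∧ Nat.card Cfsg.Spor.Fi23 = 4089470473293004800 ∧
    Nat.card (fixSub phi [0]) = 129123503308800 ∧
    Nat.card (fixSub phi ([0, 52] ++ levels.map Fast.Level.base)) = 1 := by
  haveI := fi_le.1
  obtain ⟨-, h2⟩ := card_trans realised zero_lt tree_ok
  have h3 := fi_le.2
  have h4 := card_lower realised levels_ok.1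
  have h5 := fix_lower
  have h6 := levels_ok.2.1
  have h7 := fixSub_card_pos (φ := phi) ([0, 52] ++ levels.map Fast.Level.base)
  rw [h2, tab_n] at h3
  set f := Nat.card (fixSub phi ([0, 52] ++ levels.map Fast.Level.base))
  set pr := (levels.map fun l => l.pts.length).prod
  have hb : 129123503308800 * f ≤ Nat.card (fixSub phi [0]) :=
    calc 129123503308800 * f = 3510 * (pr * f) := by rw [← h6, mul_assoc]
      _ ≤ _ := (Nat.mul_le_mul_left _ h4).trans h5
  refine ⟨fi_le.1, ?_, ?_, ?_⟩
  · rw [h2, tab_n]; omega
  · omega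
  · omega

theorem card_fi : Finite Cfsg.Spor.Fi23 ∧ Nat.card Cfsg.Spor.Fi23 = 4089470473293004800 :=
  ⟨card_all.1, card_all.2.1⟩

theorem base_trivial : fixSub phi ([0, 52] ++ levels.map Fast.Level.base) = ⊥ := by
  haveI := card_all.1
  exact Subgroup.card_eq_one.1 card_all.2.2.2

theorem phi_injective : Function.Injective phi := by
  refine (MonoidHom.ker_eq_bot_iff _).1 (eq_bot_iff.2 ?_)
  rw [← base_trivial]
  intro m hm i _
  rw [MonoidHom.mem_ker.1 hm]
  rfl

/-- Words that agree on the base give the same element. -/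
theorem eq_of_base {u v : List ℕ} (h : sameBase u v = true) : act fiGen u = act fiGen v := by
  simp only [sameBase, Bool.and_eq_true, List.all_eq_true, Nat.beq_eq, Nat.blt_eq] at h
  obtain ⟨⟨hb, hu⟩, hv⟩ := h
  have hmem : (act fiGen v)⁻¹ * act fiGen u ∈ fixSub phi ([0, 52] ++ levels.map Fast.Level.base) := by
    intro i hi
    rw [← levels_ok.2.2] at hi
    rw [map_mul, Equiv.Perm.mul_apply, map_inv, Equiv.Perm.inv_def, Equiv.symm_apply_eq]
    refine Fin.ext ?_
    rw [realised.act_apply hu, realised.act_apply hv, hb _ hi]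
  rw [base_trivial, Subgroup.mem_bot] at hmem
  exact (inv_mul_eq_one.1 hmem).symm

theorem subH_spec : subH.index = 31671 ∧ Nat.card subH = 129123503308800 ∧
    subH = fixSub phi [0] := by
  haveI := card_fi.1
  have h := subH.card_mul_index
  rw [card_fi.2] at h
  have h1 : subH.index ≤ 31671 := index_sub_le
  have h2 := Nat.mul_le_mul_right subH.index (show Nat.card subH ≤ _ from sub_le.2)
  rw [h] at h2
  have hi : subH.index = 31671 := by omega
  rw [hi] at h
  have hc : Nat.card subH = 129123503308800 := by omega
  refine ⟨hi, hc, Subgroup.eq_of_le_of_card_ge subH_le ?_⟩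
  rw [card_all.2.2.1, hc]

theorem subH_eq : subH = fixSub phi [0] := subH_spec.2.2

theorem mem_of_letters : ∀ {w : List ℕ}, (∀ g ∈ w, [g] ∈ sH) → act fiGen w ∈ subH
  | [], _ => by rw [act_nil]; exact Subgroup.one_mem _
  | g :: w, h => by
    rw [act_cons]
    refine Subgroup.mul_mem _ (mem_of_letters fun a ha => h a (List.mem_cons_of_mem _ ha)) ?_
    refine Subgroup.subset_closure ⟨[g], h g List.mem_cons_self, ?_⟩
    rw [act_cons, act_nil, one_mul]

/-- The central involution of the stabiliser. -/
def eltT : Cfsg.Spor.Fi23 := act fiGen wordT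

theorem wordT_eq : act fiGen wordT ∈ subH := by
  refine mem_of_letters fun g hg => ?_
  have h : wordT.all (fun g => sHw.contains [g]) = true := by decide +kernel
  exact List.contains_iff_mem.1 (List.all_eq_true.1 h g hg)

theorem t_sq : eltT * eltT = 1 := by
  have h := eq_of_base t_words.2.1
  rwa [act_append, act_nil] at h

theorem t_ne_one : eltT ≠ 1 := by
  intro h
  have hf := t_words.2.2.1
  have hs : sameBase wordT [] = true := by
    simp only [sameBase, Bool.and_eq_true, List.all_eq_true, Nat.beq_eq, Nat.blt_eq]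
    have hw : ∀ g ∈ wordT, g < 10 := by decide
    refine ⟨⟨fun b hb => ?_, hw⟩, fun g hg => absurd hg List.not_mem_nil⟩
    have hb2 : b < tab.n := by
      have h' : baseL.all (fun b => Nat.blt b tab.n) = true := by decide +kernel
      exact Nat.blt_eq.mp (List.all_eq_true.1 h' b hb)
    have := congrArg (fun z => ((phi z ⟨b, hb2⟩ : Fin tab.n) : ℕ)) h
    simpa [eltT, realised.act_apply hw, Fast.Tab.walk] using this
  rw [hs] at hf
  exact Bool.noConfusion hf

theorem t_central {m : Cfsg.Spor.Fi23} (hm : m ∈ subH) : eltT * m = m * eltT := by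
  suffices h : subH ≤ Subgroup.centralizer {eltT} from
    (Subgroup.mem_centralizer_iff.1 (h hm) _ rfl)
  refine (Subgroup.closure_le _).2 ?_
  rintro _ ⟨w, hw, rfl⟩
  rw [SetLike.mem_coe, Subgroup.mem_centralizer_iff]
  rintro _ rfl
  have e := eq_of_base (List.all_eq_true.1 t_words.1 w hw)
  rw [act_append, act_append] at e
  exact e.symm

/-- The first generator is conjugate to the central involution. -/
theorem first_conj : fiGen 0 = act fiGen wordA * eltT * (act fiGen wordA)⁻¹ := by
  have e := eq_of_base t_words.2.2.2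
  have hA : ∀ g ∈ wordA, g < 10 := by
    have h : wordA.all (fun g => Nat.blt g 10) = true := by decide +kernel
    exact fun g hg => Nat.blt_eq.mp (List.all_eq_true.1 h g hg)
  rw [act_append, act_append, act_reverse fiGen_sq hA, act_cons, act_nil, one_mul,
    ← mul_assoc] at e
  exact e.symm

/-- The presented group is simple. -/
theorem simple : IsSimpleGroup Cfsg.Spor.Fi23 := by
  haveI := card_fi.1
  haveI : Nontrivial Cfsg.Spor.Fi23 := Finite.one_lt_card_iff_nontrivial.1 (by
    rw [card_fi.2]; norm_num)
  have htrans := (card_trans realised zero_lt tree_ok).1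
  refine ⟨fun N hN => or_iff_not_imp_left.2 fun hne => ?_⟩
  haveI := hN
  letI : MulAction Cfsg.Spor.Fi23 (Fin tab.n) := MulAction.compHom _ phi
  haveI : MulAction.IsPretransitive Cfsg.Spor.Fi23 (Fin tab.n) := ⟨htrans⟩
  set z : Fin tab.n := ⟨0, zero_lt⟩ with hz
  set O := MulAction.orbit N z with hO
  have hdvd : O.ncard ∣ 31671 := by
    have h := (MulAction.IsBlock.orbit_of_normal (G := Cfsg.Spor.Fi23) (N := N) z).ncard_dvd_card
      (MulAction.nonempty_orbit z)
    rw [Nat.card_fin] at h
    exact h
  have hinv : ∀ i ∈ O, ∀ m ∈ genGrp forest.words fiGen, phi m i ∈ O := by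
    rintro _ ⟨⟨v, hv⟩, rfl⟩ m hm
    have hm' : m ∈ fixSub phi [0] := subH_le hm
    refine ⟨⟨m * v * m⁻¹, hN.conj_mem v hv m⟩, ?_⟩
    show phi (m * v * m⁻¹) z = phi m (phi v z)
    rw [map_mul, map_mul, Equiv.Perm.mul_apply, Equiv.Perm.mul_apply]
    congr 2
    exact Subgroup.inv_mem _ hm' z (by simp [hz])
  have hsame : ∀ i j : Fin tab.n, forest.lab i.val = forest.lab j.val → i ∈ O → j ∈ O := by
    intro i j e hi
    obtain ⟨a, ha, hai⟩ := forest_ok.reach realised i
    obtain ⟨b, hb, hbj⟩ := forest_ok.reach realised j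
    have hroot : phi a⁻¹ i = (⟨forest.roots.getD (forest.lab i.val) 0,
        (forest_ok.root (forest_ok.spec i.isLt).2.1).1⟩ : Fin tab.n) := by
      rw [map_inv, Equiv.Perm.inv_def, Equiv.symm_apply_eq]
      exact hai.symm
    have h2 := hinv _ (hinv i hi a⁻¹ (Subgroup.inv_mem _ ha)) b hb
    rw [hroot] at h2
    simp only [e] at h2
    rwa [hbj] at h2
  have hlab0 : ∀ i : Fin tab.n, forest.lab i.val = 0 → i = z := by
    intro i h0
    obtain ⟨a, ha, hai⟩ := forest_ok.reach realised i
    have ha' : a ∈ fixSub phi [0] := subH_le ha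
    simp only [h0, forest_zero.2.2.1] at hai
    exact hai.symm.trans (ha' z (by simp [hz]))
  have hall : ∀ i, i ∈ O := by
    by_contra h
    obtain ⟨j, hj⟩ := not_forall.1 h
    obtain ⟨v, hv, hvne⟩ : ∃ v ∈ N, phi v z ≠ z := by
      by_contra hfix
      simp only [not_exists, not_and, ne_eq, not_not] at hfix
      refine hne (eq_bot_iff.2 fun v hv => Subgroup.mem_bot.2 (phi_injective ?_))
      rw [map_one]
      refine Equiv.ext fun i => ?_
      obtain ⟨m, hm⟩ := htrans z i
      have h2 := hfix (m⁻¹ * v * m) (hN.conj_mem' v hv m)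
      rw [map_mul, map_mul, Equiv.Perm.mul_apply, Equiv.Perm.mul_apply, hm, map_inv,
        Equiv.Perm.inv_def, Equiv.symm_apply_eq, hm] at h2
      exact h2
    set i := phi v z
    have hi : i ∈ O := ⟨⟨v, hv⟩, rfl⟩
    have hi0 : forest.lab i.val ≠ 0 := fun h0 => hvne (hlab0 i h0)
    have hj0 : forest.lab j.val ≠ 0 := fun h0 => hj (by
      rw [hlab0 j h0]; exact MulAction.mem_orbit_self z)
    have hij : forest.lab i.val ≠ forest.lab j.val := fun e => hj (hsame i j e hi)
    have hi3 : forest.lab i.val < 3 := forest_zero.1 ▸ (forest_ok.spec i.isLt).2.1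
    have hj3 : forest.lab j.val < 3 := forest_zero.1 ▸ (forest_ok.spec j.isLt).2.1
    have heq : O = insert z {q : Fin tab.n | ∃ m ∈ genGrp forest.words fiGen, phi m i = q} := by
      ext q
      constructor
      · intro hq
        have hq3 : forest.lab q.val < 3 := forest_zero.1 ▸ (forest_ok.spec q.isLt).2.1
        have hqj : forest.lab q.val ≠ forest.lab j.val := fun e => hj (hsame q j e hq)
        rcases Nat.eq_zero_or_pos (forest.lab q.val) with h0 | h0
        · exact Or.inl (hlab0 q h0)
        · right
          obtain ⟨a, ha, hai⟩ := forest_ok.reach realised i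
          obtain ⟨b, hb, hbq⟩ := forest_ok.reach realised q
          refine ⟨b * a⁻¹, Subgroup.mul_mem _ hb (Subgroup.inv_mem _ ha), ?_⟩
          rw [map_mul, Equiv.Perm.mul_apply, map_inv, Equiv.Perm.inv_def,
            (Equiv.symm_apply_eq _).2 hai.symm]
          have e : forest.lab i.val = forest.lab q.val := by omega
          simp only [e]
          exact hbq
      · rintro (rfl | ⟨m, hm, rfl⟩)
        · exact MulAction.mem_orbit_self z
        · exact hinv i hi m hm
    have hnot : z ∉ {q : Fin tab.n | ∃ m ∈ genGrp forest.words fiGen, phi m i = q} := by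
      rintro ⟨m, hm, e⟩
      have h1 := forest_ok.invariant realised hm i
      rw [e] at h1
      rw [show z.val = 0 from rfl, forest_zero.2.1] at h1
      exact hi0 h1.symm
    rw [heq, Set.ncard_insert_of_notMem hnot (Set.toFinite _), forest_ok.orbit_card realised i,
      forest_count hi3] at hdvd
    obtain h | h : forest.lab i.val = 1 ∨ forest.lab i.val = 2 := by omega
    all_goals (rw [h] at hdvd; norm_num at hdvd)
  have hprod : ∀ m, ∃ v ∈ N, ∃ h ∈ subH, v * h = m := by
    intro m
    obtain ⟨⟨v, hv⟩, e⟩ := hall (phi m z)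
    refine ⟨v, hv, v⁻¹ * m, ?_, by group⟩
    rw [subH_eq]
    intro i hi
    have hiz : i = z := Fin.ext (List.mem_singleton.1 hi)
    subst hiz
    rw [map_mul, Equiv.Perm.mul_apply, map_inv, Equiv.Perm.inv_def, Equiv.symm_apply_eq]
    exact e.symm
  have hc : ∀ m, QuotientGroup.mk' N eltT * QuotientGroup.mk' N m =
      QuotientGroup.mk' N m * QuotientGroup.mk' N eltT := by
    intro m
    obtain ⟨v, hv, h, hh, rfl⟩ := hprod m
    rw [map_mul, show QuotientGroup.mk' N v = 1 from (QuotientGroup.eq_one_iff v).2 hv, one_mul,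
      ← map_mul, ← map_mul, t_central hh]
  refine eq_top_iff.2 fun x _ => (QuotientGroup.eq_one_iff x).1
    (hom_trivial (QuotientGroup.mk' N) (fun m => ?_) x)
  have e0 : (PresentedGroup.of Fi23.Gen.a : Cfsg.Spor.Fi23) = fiGen 0 :=
    (CoxData.gen_ix (P := fiData) fi_ok Fi23.Gen.a).symm
  have e1 : QuotientGroup.mk' N (fiGen 0) = QuotientGroup.mk' N eltT := by
    rw [first_conj, map_mul, map_mul, ← hc, mul_assoc, ← map_mul, mul_inv_cancel, map_one, mul_one]
  rw [e0, e1]
  exact hc m

end CfsgLib.Fi23P
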