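import Cfsg.Agent.Lib.Fi23P.OutRigid

/-!
# Centralisers found by scanning orbit representatives

An element commuting with `z` carries a point to a point with the same pattern of adjacencies
along its orbit under `z`. A list of orbit representatives covering all points therefore bounds
the centraliser, once an element fixing one such point is known to be central.
-/

set_option autoImplicit false
set_option maxRecDepth 100000

namespace CfsgLib.Fi23P

open CfsgLib.PresCert Cfsg.Spor

attribute [local irreducible] relShort levels wordA rootWords baseL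

/-- Adjacency of points: their transpositions commute and differ. -/
def Adj (a b : Fin tab.n) : Prop := a ≠ b ∧ phi (refl a) b = b

/-- The label of the neighbours of the first point. -/
noncomputable def isLink (y : ℕ) : Bool := Nat.beq (forest.lab y) 1

/-- The adjacencies along an orbit are as wanted. -/
noncomputable def patRun (z back : List ℕ) : List Bool → ℕ → Bool
  | [], _ => true
  | b :: bs, y =>
    (bif b then isLink (fwalk back (fwalk z y)) else !(isLink (fwalk back (fwalk z y)))) &&
      patRun z back bs (fwalk z y)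

/-- The points of an orbit segment as bits. -/
noncomputable def orbitBits (z : List ℕ) (n : ℕ) : ℕ → ℕ → ℕ :=
  Nat.rec (motive := fun _ => ℕ → ℕ → ℕ) (fun _ a => a)
    (fun _ ih r a => ih (fwalk z r) (Nat.lor a (Nat.shiftLeft 1 r))) n

/-- The points covered by representatives, given by paths from the first point. -/
noncomputable def coverBits (z : List ℕ) (n : ℕ) : List (List ℕ) → ℕ
  | [] => 0
  | p :: ps => orbitBits z n (fwalk p 0) (coverBits z n ps)

/-- The word of the transposition of the end of a path. -/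
def scanReflWord (p : List ℕ) : List ℕ := p.reverse ++ wordT ++ p

theorem phi_act {w : List ℕ} (hw : ∀ g ∈ w, g < 10) (i : Fin tab.n) :
    ((phi (act fiGen w) i : Fin tab.n) : ℕ) = fwalk w i.val := by
  rw [fwalk_eq]; exact realised.act_apply hw i

theorem adj_conj (h : Cfsg.Spor.Fi23) (a b : Fin tab.n) : Adj (phi h a) (phi h b) ↔ Adj a b := by
  unfold Adj
  rw [Ne, EmbeddingLike.apply_eq_iff_eq, ← refl_conj, map_mul, map_mul, Equiv.Perm.mul_apply,
    Equiv.Perm.mul_apply, map_inv, Equiv.Perm.inv_def, Equiv.symm_apply_apply,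
    EmbeddingLike.apply_eq_iff_eq]

theorem path_end {p : List ℕ} (hp : ∀ g ∈ p, g < 10) {r : Fin tab.n} (hr : fwalk p 0 = r.val) :
    phi (act fiGen p) origin = r :=
  Fin.ext ((phi_act hp origin).trans hr)

theorem reflWord_spec {p : List ℕ} (hp : ∀ g ∈ p, g < 10) {r : Fin tab.n}
    (hr : fwalk p 0 = r.val) : (∀ g ∈ scanReflWord p, g < 10) ∧ act fiGen (scanReflWord p) = refl r := by
  have hT : ∀ g ∈ wordT, g < 10 := by decide
  refine ⟨fun g hg => ?_, ?_⟩
  · simp only [scanReflWord, List.mem_append, List.mem_reverse] at hg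
    rcases hg with (hg | hg) | hg
    exacts [hp g hg, hT g hg, hp g hg]
  · rw [scanReflWord, act_append, act_append, act_reverse (ng := 10) fiGen_sq hp,
      refl_of (path_end hp hr), mul_assoc]
    rfl

theorem link_spec {p : List ℕ} (hp : ∀ g ∈ p, g < 10) {r y : Fin tab.n} (hr : fwalk p 0 = r.val) :
    isLink (fwalk p.reverse y.val) = true ↔ Adj r y := by
  have hp' : ∀ g ∈ p.reverse, g < 10 := fun g hg => hp g (List.mem_reverse.1 hg)
  rw [← phi_act hp' y, act_reverse (ng := 10) fiGen_sq hp]
  conv_rhs => rw [← adj_conj (act fiGen p)⁻¹, ← path_end hp hr, map_inv, Equiv.Perm.inv_def,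
    Equiv.symm_apply_apply]
  rw [map_inv, Equiv.Perm.inv_def]
  generalize (phi (act fiGen p)).symm y = q
  rw [Adj, refl_origin, isLink, Nat.beq_eq]
  constructor
  · intro h
    have hne : q ≠ origin := fun e => by
      rw [e, show forest.lab (origin : Fin tab.n).val = 0 from forest_zero.2.1] at h
      omega
    refine ⟨hne.symm, ?_⟩
    by_contra hm
    rw [(lab_fix_t q hne).2 hm] at h
    omega
  · rintro ⟨hne, hfix⟩
    exact (lab_fix_t q (Ne.symm hne)).1 hfix

/-- The adjacencies along the orbit of a point. -/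
def Pat (Z : Cfsg.Spor.Fi23) : List Bool → Fin tab.n → Fin tab.n → Prop
  | [], _, _ => True
  | b :: bs, r, y => (Adj r (phi Z y) ↔ b = true) ∧ Pat Z bs r (phi Z y)

theorem patRun_spec {z p : List ℕ} (hz : ∀ g ∈ z, g < 10) (hp : ∀ g ∈ p, g < 10) {r : Fin tab.n}
    (hr : fwalk p 0 = r.val) : ∀ (bs : List Bool) (y : Fin tab.n),
    patRun z p.reverse bs y.val = true ↔ Pat (act fiGen z) bs r y
  | [], _ => by simp [patRun, Pat]
  | b :: bs, y => by
    simp only [patRun, Bool.and_eq_true, Pat, ← phi_act hz y, patRun_spec hz hp hr bs]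
    refine and_congr_left fun _ => ?_
    rw [← link_spec hp hr]
    cases b <;> simp

theorem pat_conj {Z h : Cfsg.Spor.Fi23} (hc : h * Z = Z * h) :
    ∀ (bs : List Bool) (r y : Fin tab.n), Pat Z bs r y → Pat Z bs (phi h r) (phi h y)
  | [], _, _, _ => trivial
  | b :: bs, r, y, ⟨h1, h2⟩ => by
    have e : phi Z (phi h y) = phi h (phi Z y) := by
      rw [← Equiv.Perm.mul_apply, ← map_mul, ← hc, map_mul, Equiv.Perm.mul_apply]
    refine ⟨?_, ?_⟩
    · rw [e, adj_conj]; exact h1
    · rw [e]; exact pat_conj hc bs r _ h2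

theorem orbitBits_spec (z : List ℕ) : ∀ (n r a q : ℕ), (orbitBits z n r a).testBit q = true →
    a.testBit q = true ∨ ∃ k, k < n ∧ (fwalk z)^[k] r = q
  | 0, _, _, _, h => Or.inl h
  | n + 1, r, a, q, h => by
    change (orbitBits z n (fwalk z r) (Nat.lor a (Nat.shiftLeft 1 r))).testBit q = true at h
    rcases orbitBits_spec z n _ _ q h with h1 | ⟨k, hk, e⟩
    · change (a ||| 1 <<< r).testBit q = true at h1
      rw [Nat.shiftLeft_eq, one_mul, Nat.testBit_or, Bool.or_eq_true, Nat.testBit_two_pow,
        decide_eq_true_eq] at h1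
      exact h1.imp_right fun e => ⟨0, Nat.succ_pos n, e⟩
    · exact Or.inr ⟨k + 1, by omega, by rw [Function.iterate_succ_apply]; exact e⟩

theorem coverBits_spec (z : List ℕ) (n : ℕ) : ∀ (ps : List (List ℕ)) (q : ℕ),
    (coverBits z n ps).testBit q = true → ∃ p ∈ ps, ∃ k, k < n ∧ (fwalk z)^[k] (fwalk p 0) = q
  | [], q, h => by simp [coverBits] at h
  | p :: ps, q, h => by
    rcases orbitBits_spec z n _ _ q h with h | h
    · obtain ⟨p', hp', h'⟩ := coverBits_spec z n ps q h
      exact ⟨p', List.mem_cons_of_mem _ hp', h'⟩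
    · exact ⟨p, List.mem_cons_self, h⟩

theorem phi_iterate {z : List ℕ} (hz : ∀ g ∈ z, g < 10) : ∀ (k : ℕ) (i : Fin tab.n),
    ((phi (act fiGen z ^ k) i : Fin tab.n) : ℕ) = (fwalk z)^[k] i.val
  | 0, i => by simp
  | k + 1, i => by
    rw [pow_succ, map_mul, Equiv.Perm.mul_apply, phi_iterate hz k, phi_act hz,
      Function.iterate_succ_apply]

/-- The representatives cover all points. -/
noncomputable def coverOk (z : List ℕ) (n : ℕ) (ps : List (List ℕ)) : Bool :=
  Nat.beq (coverBits z n ps) (2 ^ 31671 - 1) && ps.all fun p => p.all fun g => Nat.blt g 10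

theorem cover_spec {z : List ℕ} {n : ℕ} {ps : List (List ℕ)} (hz : ∀ g ∈ z, g < 10)
    (h : coverOk z n ps = true) (q : Fin tab.n) :
    ∃ p ∈ ps, (∀ g ∈ p, g < 10) ∧ ∃ (r : Fin tab.n) (k : ℕ),
      fwalk p 0 = r.val ∧ k < n ∧ phi (act fiGen z ^ k) r = q := by
  simp only [coverOk, Bool.and_eq_true, Nat.beq_eq, List.all_eq_true, Nat.blt_eq] at h
  have hq : (coverBits z n ps).testBit q.val = true := by
    rw [h.1, Nat.testBit_two_pow_sub_one, decide_eq_true_eq]
    exact q.isLt
  obtain ⟨p, hp, k, hk, e⟩ := coverBits_spec z n ps _ hq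
  have hlt : ∀ g ∈ p, g < 10 := h.2 p hp
  refine ⟨p, hp, hlt, phi (act fiGen p) origin, k, (phi_act hlt origin).symm, hk, Fin.ext ?_⟩
  rw [phi_iterate hz, phi_act hlt origin]
  exact e

/-- The adjacency of the end of a path to its image under a sequence of the two moves. -/
noncomputable def sepBit (z p : List ℕ) (mv : List ℕ) : Bool :=
  isLink (fwalk p.reverse (fwalk (mv.flatMap fun i => [z, scanReflWord p].getD i []) (fwalk p 0)))

/-- Representatives with the pattern are the listed points or are told apart by a sequence of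
moves. -/
noncomputable def scanOk (z px : List ℕ) (pat : List Bool) (good : List ℕ) (seps : List (List ℕ))
    (ps : List (List ℕ)) : Bool :=
  ps.all fun p => !(patRun z p.reverse pat (fwalk p 0)) || good.contains (fwalk p 0) ||
    seps.any fun mv => !(sepBit z p mv == sepBit z px mv)

theorem sepBit_conj {z p px : List ℕ} (hz : ∀ g ∈ z, g < 10) (hp : ∀ g ∈ p, g < 10)
    (hpx : ∀ g ∈ px, g < 10) {r x : Fin tab.n} (hr : fwalk p 0 = r.val)
    (hx : fwalk px 0 = x.val) {h : Cfsg.Spor.Fi23} (hh : h * act fiGen z = act fiGen z * h)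
    (hhx : phi h x = r) (mv : List ℕ) : sepBit z p mv = sepBit z px mv := by
  have hl : ∀ (q : List ℕ), (∀ g ∈ q, g < 10) → ∀ {y : Fin tab.n}, fwalk q 0 = y.val →
      ∀ g ∈ mv.flatMap (fun i => [z, scanReflWord q].getD i []), g < 10 := by
    intro q hq y hy g hg
    simp only [List.mem_flatMap] at hg
    obtain ⟨i, -, hg⟩ := hg
    rcases i with _ | _ | i <;> simp at hg
    exacts [hz g hg, (reflWord_spec hq hy).1 g hg]
  set R := act fiGen (mv.flatMap fun i => [z, scanReflWord p].getD i [])
  set X := act fiGen (mv.flatMap fun i => [z, scanReflWord px].getD i []) with hX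
  have hRX : R * h = h * X := by
    simp only [R, X]
    have key : ∀ i, act fiGen ([z, scanReflWord p].getD i []) * h =
        h * act fiGen ([z, scanReflWord px].getD i []) := by
      intro i
      rcases i with _ | _ | i
      · exact hh.symm
      · show act fiGen (scanReflWord p) * h = h * act fiGen (scanReflWord px)
        rw [(reflWord_spec hp hr).2, (reflWord_spec hpx hx).2, ← hhx, ← refl_conj, inv_mul_cancel_right]
      · simp [act_nil]
    clear hl hX R X
    induction mv with
    | nil => simp [act_nil]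
    | cons i mv ih =>
      rw [List.flatMap_cons, List.flatMap_cons, act_append, act_append, mul_assoc, key i,
        ← mul_assoc, ih, mul_assoc]
  have e : phi R r = phi h (phi X x) := by
    rw [← hhx, ← Equiv.Perm.mul_apply, ← map_mul, hRX, map_mul, Equiv.Perm.mul_apply]
  have a1 : fwalk (mv.flatMap fun i => [z, scanReflWord p].getD i []) r.val = (phi R r).val :=
    (phi_act (hl p hp hr) r).symm
  have a2 : fwalk (mv.flatMap fun i => [z, scanReflWord px].getD i []) x.val = (phi X x).val :=
    (phi_act (hl px hpx hx) x).symm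
  rw [sepBit, sepBit, hr, hx, a1, a2, Bool.eq_iff_iff, link_spec hp hr, link_spec hpx hx, e, ← hhx,
    adj_conj]

/-- The pattern holds at the point; the listed points are images of it under listed words. -/
noncomputable def seedOk (z : List ℕ) (pat : List Bool) (good : List ℕ) (L : List (List ℕ))
    (px : List ℕ) : Bool :=
  patRun z px.reverse pat (fwalk px 0) && z.all (fun g => Nat.blt g 10) &&
    px.all (fun g => Nat.blt g 10) &&
    L.all (fun l => l.all (fun g => Nat.blt g 10) && sameBase (z ++ l) (l ++ z)) &&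
    good.all fun e => L.any fun l => Nat.beq (fwalk l (fwalk px 0)) e

/-- An element of the centraliser is a power, a listed element and an element fixing the point. -/
theorem cent_cases {z : List ℕ} {n : ℕ} {pat : List Bool} {good : List ℕ} {L : List (List ℕ)}
    {px : List ℕ} {seps : List (List ℕ)} {ps : List (List ℕ)} (h1 : coverOk z n ps = true)
    (h2 : scanOk z px pat good seps ps = true) (h3 : seedOk z pat good L px = true)
    {c : Cfsg.Spor.Fi23} (hc : c * act fiGen z = act fiGen z * c) :
    ∃ k, k < n ∧ ∃ l ∈ L, ∃ s : Cfsg.Spor.Fi23, c = act fiGen z ^ k * act fiGen l * s ∧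
      s * act fiGen z = act fiGen z * s ∧
      phi s (phi (act fiGen px) origin) = phi (act fiGen px) origin := by
  simp only [seedOk, Bool.and_eq_true, List.all_eq_true, Nat.blt_eq, List.any_eq_true,
    Nat.beq_eq] at h3
  obtain ⟨⟨⟨⟨hpat, hz⟩, hpx⟩, hL⟩, hgood⟩ := h3
  set x := phi (act fiGen px) origin with hx
  have hxv : fwalk px 0 = x.val := (phi_act hpx origin).symm
  rw [hxv, patRun_spec hz hpx hxv] at hpat
  obtain ⟨p, hp, hlt, r, k, hr, hk, e⟩ := cover_spec hz h1 (phi c x)
  set Z := act fiGen z
  have hcm : Commute c Z := hc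
  have hd : (Z ^ k)⁻¹ * c * Z = Z * ((Z ^ k)⁻¹ * c) :=
    ((((Commute.refl Z).pow_left k).inv_left).mul_left hcm).eq
  have hdx : phi ((Z ^ k)⁻¹ * c) x = r := by
    rw [map_mul, Equiv.Perm.mul_apply, map_inv, Equiv.Perm.inv_def, Equiv.symm_apply_eq, e]
  have hpr := pat_conj hd pat x x hpat
  rw [hdx, ← patRun_spec hz hlt hr, ← hr] at hpr
  simp only [scanOk, List.all_eq_true, Bool.or_eq_true, Bool.not_eq_true',
    List.contains_iff_mem, List.any_eq_true, beq_eq_false_iff_ne] at h2
  have hg : fwalk p 0 ∈ good := by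
    rcases h2 p hp with (h | h) | ⟨mv, -, h⟩
    · rw [hpr] at h; exact Bool.noConfusion h
    · exact h
    · exact absurd (sepBit_conj hz hlt hpx hr hxv hd hdx mv) h
  obtain ⟨l, hl, el⟩ := hgood _ hg
  obtain ⟨hll, hbase⟩ := hL l hl
  have hlc : act fiGen l * Z = Z * act fiGen l := by
    have := eq_of_base hbase
    rwa [act_append, act_append, eq_comm, eq_comm] at this
  have hlx : phi (act fiGen l) x = r := Fin.ext (by rw [phi_act hll, ← hxv, el, hr])
  refine ⟨k, hk, l, hl, (act fiGen l)⁻¹ * ((Z ^ k)⁻¹ * c), by group, ?_, ?_⟩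
  · exact ((show Commute (act fiGen l) Z from hlc).inv_left.mul_left hd).eq
  · rw [map_mul, Equiv.Perm.mul_apply, hdx, map_inv, Equiv.Perm.inv_def, Equiv.symm_apply_eq, hlx]

/-- The fixed points among representatives are listed. -/
noncomputable def fixScan (z : List ℕ) (fixed : List ℕ) (ps : List (List ℕ)) : Bool :=
  ps.all fun p => !(Nat.beq (fwalk z (fwalk p 0)) (fwalk p 0)) || fixed.contains (fwalk p 0)

theorem fix_cases {z : List ℕ} {n : ℕ} {fixed : List ℕ} {ps : List (List ℕ)}
    (hz : ∀ g ∈ z, g < 10) (h1 : coverOk z n ps = true) (h2 : fixScan z fixed ps = true)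
    {q : Fin tab.n} (hq : phi (act fiGen z) q = q) : q.val ∈ fixed := by
  obtain ⟨p, hp, hlt, r, k, hr, -, e⟩ := cover_spec hz h1 q
  have hr' : phi (act fiGen z) r = r := by
    have := hq
    rw [← e, ← Equiv.Perm.mul_apply, ← map_mul, ← pow_succ', pow_succ, map_mul,
      Equiv.Perm.mul_apply] at this
    exact (phi _).injective this
  have hk : ∀ j : ℕ, phi (act fiGen z ^ j) r = r := by
    intro j
    induction j with
    | zero => simp
    | succ j ih => rw [pow_succ, map_mul, Equiv.Perm.mul_apply, hr', ih]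
  rw [hk k] at e
  subst e
  simp only [fixScan, List.all_eq_true, Bool.or_eq_true, Bool.not_eq_true',
    List.contains_iff_mem] at h2
  rw [← hr]
  refine (h2 p hp).resolve_left fun hb => ?_
  rw [hr, ← phi_act hz, hr', Nat.beq_refl] at hb
  exact Bool.noConfusion hb

/-- A property closed under words holds on the points reached by them. -/
theorem reach_prop {gens : List (List ℕ)} (Q : Fin tab.n → Prop)
    (hg : ∀ w ∈ gens, (∀ g ∈ w, g < 10) ∧ ∀ p, Q p → Q (phi (act fiGen w) p)) :
    ∀ {es : List (ℕ × ℕ)} {bits : ℕ},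
      (∀ q : Fin tab.n, bits.testBit q.val = true → Q q) →
      (∀ k, bits.testBit k = true → k < tab.n) →
      ∀ q : Fin tab.n, (reachBits gens es bits).testBit q.val = true → Q q
  | [], _, hb, _ => hb
  | (g, a) :: es, bits, hb, hlt => by
    simp only [reachBits]
    cases ha : bits.testBit a
    · simpa using reach_prop Q hg (es := es) hb hlt
    · have hal := hlt a ha
      simp only [cond_true]
      have key : tab.walk a (gens.getD g []) < tab.n ∧
          ∀ h : tab.walk a (gens.getD g []) < tab.n, Q ⟨_, h⟩ := by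
        by_cases hgl : g < gens.length
        · rw [List.getD_eq_getElem _ _ hgl]
          obtain ⟨w1, w2⟩ := hg _ (List.getElem_mem hgl)
          have e : (phi (act fiGen gens[g]) ⟨a, hal⟩).val = tab.walk a gens[g] :=
            realised.act_apply w1 _
          exact ⟨e ▸ Fin.isLt _, fun h => by
            rw [show (⟨_, h⟩ : Fin tab.n) = phi (act fiGen gens[g]) ⟨a, hal⟩ from Fin.ext e.symm]
            exact w2 _ (hb ⟨a, hal⟩ ha)⟩
        · rw [List.getD_eq_default _ _ (Nat.le_of_not_lt hgl)]
          exact ⟨hal, fun h => hb ⟨a, h⟩ ha⟩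
      refine reach_prop Q hg ?_ ?_
      · intro q hq
        simp only [Nat.testBit_or, Bool.or_eq_true, Nat.testBit_two_pow, decide_eq_true_eq] at hq
        rcases hq with hq | hq
        · exact hb q hq
        · have h := key.2 (hq ▸ q.isLt)
          rwa [show (⟨_, hq ▸ q.isLt⟩ : Fin tab.n) = q from Fin.ext hq] at h
      · intro k hk
        simp only [Nat.testBit_or, Bool.or_eq_true, Nat.testBit_two_pow, decide_eq_true_eq] at hk
        rcases hk with hk | hk
        · exact hlt k hk
        · exact hk ▸ key.1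

/-- Two kinds of moves reach the points of the generators with the given numbers. -/
noncomputable def genReach (z px : List ℕ) (es : List (ℕ × ℕ)) (need : List ℕ) : Bool :=
  need.all fun k => (reachBits [z, scanReflWord px] es (2 ^ fwalk px 0)).testBit (genPts.getD k 0)

theorem genReach_spec {z px : List ℕ} {es : List (ℕ × ℕ)} {need : List ℕ}
    (hz : ∀ g ∈ z, g < 10) (hpx : ∀ g ∈ px, g < 10) (h : genReach z px es need = true)
    {Q : Fin tab.n → Prop} {x : Fin tab.n} (hx : phi (act fiGen px) origin = x) (h0 : Q x)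
    (h1 : ∀ p, Q p → Q (phi (act fiGen z) p)) (h2 : ∀ p, Q p → Q (phi (refl x) p)) :
    ∀ k ∈ need, Q (gp k) := by
  have hxv : fwalk px 0 = x.val := by rw [← hx]; exact (phi_act hpx origin).symm
  obtain ⟨hw, he⟩ := reflWord_spec hpx hxv
  intro k hk
  refine reach_prop Q (gens := [z, scanReflWord px]) ?_ ?_ ?_ (gp k) (List.all_eq_true.1 h k hk)
  · intro w hw'
    simp only [List.mem_cons, List.not_mem_nil, or_false] at hw'
    rcases hw' with rfl | rfl
    · exact ⟨hz, h1⟩
    · exact ⟨hw, he ▸ h2⟩
  · intro q hq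
    rw [Nat.testBit_two_pow, decide_eq_true_eq, hxv] at hq
    rwa [Fin.ext hq] at h0
  · intro j hj
    rw [Nat.testBit_two_pow, decide_eq_true_eq] at hj
    rw [← hj, hxv]; exact x.isLt

theorem center_trivial {s : Cfsg.Spor.Fi23} (h : ∀ k < 10, phi s (gp k) = gp k) : s = 1 := by
  have := simple
  have hc : s ∈ Subgroup.center Cfsg.Spor.Fi23 := by
    refine Subgroup.mem_center_iff.2 fun m => ?_
    have hm : m ∈ genGrp ((List.range 10).map fun g => [g]) fiGen := by
      rw [closure_all]; exact Subgroup.mem_top m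
    have key : genGrp ((List.range 10).map fun g => [g]) fiGen ≤ Subgroup.centralizer {s} := by
      refine (Subgroup.closure_le _).2 ?_
      rintro _ ⟨w, hw, rfl⟩
      obtain ⟨g, hg, rfl⟩ := List.mem_map.1 hw
      rw [List.mem_range] at hg
      rw [SetLike.mem_coe, Subgroup.mem_centralizer_singleton_iff, act_cons, act_nil, one_mul,
        gen_refl g hg]
      exact (commute_refl.2 (h g hg)).symm
    exact Subgroup.mem_centralizer_singleton_iff.1 (key hm)
  refine Subgroup.mem_bot.1 ?_
  rw [← (inferInstance : (Subgroup.center Cfsg.Spor.Fi23).Normal).eq_bot_or_eq_top.resolve_right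
    fun e => ?_]
  · exact hc
  have htop : Subgroup.centralizer ({eltT} : Set Cfsg.Spor.Fi23) = ⊤ := by
    refine eq_top_iff.2 fun m _ => Subgroup.mem_centralizer_singleton_iff.2 ?_
    exact Subgroup.mem_center_iff.1 (e ▸ Subgroup.mem_top eltT) m
  have := subH_spec.1
  rw [← centralizer_t, htop, Subgroup.index_top] at this
  omega

end CfsgLib.Fi23P
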