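import Cfsg.Agent.Lib.PresCert.Bound
import Cfsg.Agent.Lib.Fi23P.DataG22

/-!
Kernel checks of a certificate, part 2.
-/

set_option autoImplicit false
set_option maxRecDepth 100000

namespace CfsgLib.Fi23P

open CfsgLib.PresCert

theorem certG22_block12 : block certG22 12 = true := by decide +kernel

theorem certG22_block13 : block certG22 13 = true := by decide +kernel

theorem certG22_block14 : block certG22 14 = true := by decide +kernel

theorem certG22_block15 : block certG22 15 = true := by decide +kernel

theorem certG22_block16 : block certG22 16 = true := by decide +kernel

theorem certG22_block17 : block certG22 17 = true := by decide +kernel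

end CfsgLib.Fi23P
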