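import Cfsg.Agent.Lib.PresCert.Bound
import Cfsg.Agent.Lib.Fi23P.DataG22

/-!
Kernel checks of a certificate, part 3.
-/

set_option autoImplicit false
set_option maxRecDepth 100000

namespace CfsgLib.Fi23P

open CfsgLib.PresCert

theorem certG22_block18 : block certG22 18 = true := by decide +kernel

theorem certG22_closedBlock0 : closedBlock certG22 [[0], [1], [2], [3], [4], [5], [6], [8], [9]] 0 = true := by decide +kernel

theorem certG22_closedBlock1 : closedBlock certG22 [[0], [1], [2], [3], [4], [5], [6], [8], [9]] 1 = true := by decide +kernel

theorem certG22_closedBlock2 : closedBlock certG22 [[0], [1], [2], [3], [4], [5], [6], [8], [9]] 2 = true := by decide +kernel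

theorem certG22_closedBlock3 : closedBlock certG22 [[0], [1], [2], [3], [4], [5], [6], [8], [9]] 3 = true := by decide +kernel

theorem certG22_closedBlock4 : closedBlock certG22 [[0], [1], [2], [3], [4], [5], [6], [8], [9]] 4 = true := by decide +kernel

end CfsgLib.Fi23P
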