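import Cfsg.Agent.Lib.PresCert.Bound
import Cfsg.Agent.Lib.Fi23P.DataG23

/-!
Kernel checks of a certificate, part 1.
-/

set_option autoImplicit false
set_option maxRecDepth 100000

namespace CfsgLib.Fi23P

open CfsgLib.PresCert

theorem certG23_block6 : block certG23 6 = true := by decide +kernel

theorem certG23_block7 : block certG23 7 = true := by decide +kernel

theorem certG23_block8 : block certG23 8 = true := by decide +kernel

theorem certG23_block9 : block certG23 9 = true := by decide +kernel

theorem certG23_block10 : block certG23 10 = true := by decide +kernel

theorem certG23_block11 : block certG23 11 = true := by decide +kernel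

end CfsgLib.Fi23P
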