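import Cfsg.Agent.Lib.PresCert.Bound
import Cfsg.Agent.Lib.Fi23P.DataG23

/-!
Kernel checks of a certificate, part 11.
-/

set_option autoImplicit false
set_option maxRecDepth 100000

namespace CfsgLib.Fi23P

open CfsgLib.PresCert

theorem certG23_closedBlock16 : closedBlock certG23 [[0], [1], [2], [3], [4], [5], [6], [7], [8], [9]] 16 = true := by decide +kernel

theorem certG23_closedBlock17 : closedBlock certG23 [[0], [1], [2], [3], [4], [5], [6], [7], [8], [9]] 17 = true := by decide +kernel

theorem certG23_closedBlock18 : closedBlock certG23 [[0], [1], [2], [3], [4], [5], [6], [7], [8], [9]] 18 = true := by decide +kernel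

theorem certG23_closedBlock19 : closedBlock certG23 [[0], [1], [2], [3], [4], [5], [6], [7], [8], [9]] 19 = true := by decide +kernel

theorem certG23_closedBlock20 : closedBlock certG23 [[0], [1], [2], [3], [4], [5], [6], [7], [8], [9]] 20 = true := by decide +kernel

theorem certG23_closedBlock21 : closedBlock certG23 [[0], [1], [2], [3], [4], [5], [6], [7], [8], [9]] 21 = true := by decide +kernel

end CfsgLib.Fi23P
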