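import Cfsg.Agent.Lib.PresCert.Bound
import Cfsg.Agent.Lib.Fi23P.DataG23

/-!
Kernel checks of a certificate, part 5.
-/

set_option autoImplicit false
set_option maxRecDepth 100000

namespace CfsgLib.Fi23P

open CfsgLib.PresCert

theorem certG23_block30 : block certG23 30 = true := by decide +kernel

theorem certG23_block31 : block certG23 31 = true := by decide +kernel

theorem certG23_block32 : block certG23 32 = true := by decide +kernel

theorem certG23_block33 : block certG23 33 = true := by decide +kernel

theorem certG23_block34 : block certG23 34 = true := by decide +kernel

theorem certG23_block35 : block certG23 35 = true := by decide +kernel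

end CfsgLib.Fi23P
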