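import Cfsg.Agent.Lib.PresCert.Bound
import Cfsg.Agent.Lib.Fi23P.DataG23

/-!
Kernel checks of a certificate, part 7.
-/

set_option autoImplicit false
set_option maxRecDepth 100000

namespace CfsgLib.Fi23P

open CfsgLib.PresCert

theorem certG23_block42 : block certG23 42 = true := by decide +kernel

theorem certG23_block43 : block certG23 43 = true := by decide +kernel

theorem certG23_block44 : block certG23 44 = true := by decide +kernel

theorem certG23_block45 : block certG23 45 = true := by decide +kernel

theorem certG23_block46 : block certG23 46 = true := by decide +kernel

theorem certG23_block47 : block certG23 47 = true := by decide +kernel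

end CfsgLib.Fi23P
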