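import Cfsg.Agent.Lib.PresCert.Bound
import Cfsg.Agent.Lib.Fi23P.DataU8

/-!
Kernel checks of a derivation, part 0.
-/

set_option autoImplicit false
set_option maxRecDepth 100000

namespace CfsgLib.Fi23P

open CfsgLib.PresCert

theorem certU8_block0 : block certU8 0 = true := by decide +kernel

theorem certU8_block1 : block certU8 1 = true := by decide +kernel

theorem certU8_block2 : block certU8 2 = true := by decide +kernel

theorem certU8_block3 : block certU8 3 = true := by decide +kernel

theorem certU8_block4 : block certU8 4 = true := by decide +kernel

end CfsgLib.Fi23P
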