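import Cfsg.Agent.Lib.PresCert.Bound
import Cfsg.Agent.Lib.Fi23P.DataU8

/-!
Kernel checks of a derivation, part 1.
-/

set_option autoImplicit false
set_option maxRecDepth 100000

namespace CfsgLib.Fi23P

open CfsgLib.PresCert

theorem certU8_block5 : block certU8 5 = true := by decide +kernel

theorem certU8_block6 : block certU8 6 = true := by decide +kernel

theorem certU8_block7 : block certU8 7 = true := by decide +kernel

theorem certU8_block8 : block certU8 8 = true := by decide +kernel

theorem certU8_block9 : block certU8 9 = true := by decide +kernel

end CfsgLib.Fi23P
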