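import Cfsg.Agent.Lib.PresCert.Bound
import Cfsg.Agent.Lib.Fi23P.DataSmall
import Cfsg.Agent.Lib.Fi23P.CheckO7p0
import Cfsg.Agent.Lib.Fi23P.CheckO7p1
import Cfsg.Agent.Lib.Fi23P.CheckO7p2
import Cfsg.Agent.Lib.Fi23P.CheckG22p0
import Cfsg.Agent.Lib.Fi23P.CheckG22p1
import Cfsg.Agent.Lib.Fi23P.CheckG22p2
import Cfsg.Agent.Lib.Fi23P.CheckG22p3
import Cfsg.Agent.Lib.Fi23P.CheckG22p4
import Cfsg.Agent.Lib.Fi23P.CheckG22p5
import Cfsg.Agent.Lib.Fi23P.CheckG23p0
import Cfsg.Agent.Lib.Fi23P.CheckG23p1
import Cfsg.Agent.Lib.Fi23P.CheckG23p2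
import Cfsg.Agent.Lib.Fi23P.CheckG23p3
import Cfsg.Agent.Lib.Fi23P.CheckG23p4
import Cfsg.Agent.Lib.Fi23P.CheckG23p5
import Cfsg.Agent.Lib.Fi23P.CheckG23p6
import Cfsg.Agent.Lib.Fi23P.CheckG23p7
import Cfsg.Agent.Lib.Fi23P.CheckG23p8
import Cfsg.Agent.Lib.Fi23P.CheckG23p9
import Cfsg.Agent.Lib.Fi23P.CheckG23p10
import Cfsg.Agent.Lib.Fi23P.CheckG23p11
import Cfsg.Agent.Lib.Fi23P.CheckG23p12
import Cfsg.Agent.Lib.Fi23P.CheckG23p13

/-!
Closed certificates.
-/

set_option autoImplicit false
set_option maxRecDepth 100000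

namespace CfsgLib.Fi23P

open CfsgLib.PresCert

theorem certD5_block0 : block certD5 0 = true := by decide +kernel

theorem certD5_block1 : block certD5 1 = true := by decide +kernel

theorem certD5_block2 : block certD5 2 = true := by decide +kernel

theorem certD5_closedBlock0 : closedBlock certD5 [[2], [3], [4], [5], [8]] 0 = true := by decide +kernel

theorem certD5_closedBlock1 : closedBlock certD5 [[2], [3], [4], [5], [8]] 1 = true := by decide +kernel

theorem certD5_shape : shapeOk certD5 = true ∧ ([[2], [3], [4], [5], [8]] : List (List ℕ)).all (fun w => w.all fun g => Nat.blt g certD5.ng) = true := by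
  decide +kernel

theorem certD5_closed : Closed certD5 [[2], [3], [4], [5], [8]] where
  shape := certD5_shape.1
  slots b hb := by
    have h : certD5.N = 2048 := rfl
    obtain rfl | rfl | rfl : b = 0 ∨ b = 1 ∨ b = 2 := by omega
    exacts [certD5_block0, certD5_block1, certD5_block2]
  words := certD5_shape.2
  closed b hb := by
    have h : certD5.n = 1920 := rfl
    obtain rfl | rfl : b = 0 ∨ b = 1 := by omega
    exacts [certD5_closedBlock0, certD5_closedBlock1]

theorem certE6_block0 : block certE6 0 = true := by decide +kernel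

theorem certE6_closedBlock0 : closedBlock certE6 [[1], [2], [3], [4], [5], [8]] 0 = true := by decide +kernel

theorem certE6_shape : shapeOk certE6 = true ∧ ([[1], [2], [3], [4], [5], [8]] : List (List ℕ)).all (fun w => w.all fun g => Nat.blt g certE6.ng) = true := by
  decide +kernel

theorem certE6_closed : Closed certE6 [[1], [2], [3], [4], [5], [8]] where
  shape := certE6_shape.1
  slots b hb := by
    have h : certE6.N = 512 := rfl
    obtain rfl : b = 0 := by omega
    exact certE6_block0
  words := certE6_shape.2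
  closed b hb := by
    have h : certE6.n = 27 := rfl
    obtain rfl : b = 0 := by omega
    exact certE6_closedBlock0

theorem certE7_block0 : block certE7 0 = true := by decide +kernel

theorem certE7_closedBlock0 : closedBlock certE7 [[1], [2], [3], [4], [5], [6], [8]] 0 = true := by decide +kernel

theorem certE7_shape : shapeOk certE7 = true ∧ ([[1], [2], [3], [4], [5], [6], [8]] : List (List ℕ)).all (fun w => w.all fun g => Nat.blt g certE7.ng) = true := by
  decide +kernel

theorem certE7_closed : Closed certE7 [[1], [2], [3], [4], [5], [6], [8]] where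
  shape := certE7_shape.1
  slots b hb := by
    have h : certE7.N = 512 := rfl
    obtain rfl : b = 0 := by omega
    exact certE7_block0
  words := certE7_shape.2
  closed b hb := by
    have h : certE7.n = 56 := rfl
    obtain rfl : b = 0 := by omega
    exact certE7_closedBlock0

theorem certO7_shape : shapeOk certO7 = true ∧ ([[1], [2], [3], [4], [5], [6], [8], [9]] : List (List ℕ)).all (fun w => w.all fun g => Nat.blt g certO7.ng) = true := by
  decide +kernel

theorem certO7_closed : Closed certO7 [[1], [2], [3], [4], [5], [6], [8], [9]] where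
  shape := certO7_shape.1
  slots b hb := by
    have h : certO7.N = 13312 := rfl
    obtain rfl | rfl | rfl | rfl | rfl | rfl | rfl | rfl | rfl | rfl | rfl | rfl | rfl | rfl : b = 0 ∨ b = 1 ∨ b = 2 ∨ b = 3 ∨ b = 4 ∨ b = 5 ∨ b = 6 ∨ b = 7 ∨ b = 8 ∨ b = 9 ∨ b = 10 ∨ b = 11 ∨ b = 12 ∨ b = 13 := by omega
    exacts [certO7_block0, certO7_block1, certO7_block2, certO7_block3, certO7_block4, certO7_block5, certO7_block6, certO7_block7, certO7_block8, certO7_block9, certO7_block10, certO7_block11, certO7_block12, certO7_block13]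
  words := certO7_shape.2
  closed b hb := by
    have h : certO7.n = 3159 := rfl
    obtain rfl | rfl | rfl | rfl : b = 0 ∨ b = 1 ∨ b = 2 ∨ b = 3 := by omega
    exacts [certO7_closedBlock0, certO7_closedBlock1, certO7_closedBlock2, certO7_closedBlock3]

theorem certG22_shape : shapeOk certG22 = true ∧ ([[0], [1], [2], [3], [4], [5], [6], [8], [9]] : List (List ℕ)).all (fun w => w.all fun g => Nat.blt g certG22.ng) = true := by
  decide +kernel

theorem certG22_closed : Closed certG22 [[0], [1], [2], [3], [4], [5], [6], [8], [9]] where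
  shape := certG22_shape.1
  slots b hb := by
    have h : certG22.N = 18432 := rfl
    obtain rfl | rfl | rfl | rfl | rfl | rfl | rfl | rfl | rfl | rfl | rfl | rfl | rfl | rfl | rfl | rfl | rfl | rfl | rfl : b = 0 ∨ b = 1 ∨ b = 2 ∨ b = 3 ∨ b = 4 ∨ b = 5 ∨ b = 6 ∨ b = 7 ∨ b = 8 ∨ b = 9 ∨ b = 10 ∨ b = 11 ∨ b = 12 ∨ b = 13 ∨ b = 14 ∨ b = 15 ∨ b = 16 ∨ b = 17 ∨ b = 18 := by omega
    exacts [certG22_block0, certG22_block1, certG22_block2, certG22_block3, certG22_block4, certG22_block5, certG22_block6, certG22_block7, certG22_block8, certG22_block9, certG22_block10, certG22_block11, certG22_block12, certG22_block13, certG22_block14, certG22_block15, certG22_block16, certG22_block17, certG22_block18]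
  words := certG22_shape.2
  closed b hb := by
    have h : certG22.n = 14080 := rfl
    obtain rfl | rfl | rfl | rfl | rfl | rfl | rfl | rfl | rfl | rfl | rfl | rfl | rfl | rfl | rfl : b = 0 ∨ b = 1 ∨ b = 2 ∨ b = 3 ∨ b = 4 ∨ b = 5 ∨ b = 6 ∨ b = 7 ∨ b = 8 ∨ b = 9 ∨ b = 10 ∨ b = 11 ∨ b = 12 ∨ b = 13 ∨ b = 14 := by omega
    exacts [certG22_closedBlock0, certG22_closedBlock1, certG22_closedBlock2, certG22_closedBlock3, certG22_closedBlock4, certG22_closedBlock5, certG22_closedBlock6, certG22_closedBlock7, certG22_closedBlock8, certG22_closedBlock9, certG22_closedBlock10, certG22_closedBlock11, certG22_closedBlock12, certG22_closedBlock13, certG22_closedBlock14]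

theorem certG23_shape : shapeOk certG23 = true ∧ ([[0], [1], [2], [3], [4], [5], [6], [7], [8], [9]] : List (List ℕ)).all (fun w => w.all fun g => Nat.blt g certG23.ng) = true := by
  decide +kernel

theorem certG23_closed : Closed certG23 [[0], [1], [2], [3], [4], [5], [6], [7], [8], [9]] where
  shape := certG23_shape.1
  slots b hb := by
    have h : certG23.N = 49664 := rfl
    obtain rfl | rfl | rfl | rfl | rfl | rfl | rfl | rfl | rfl | rfl | rfl | rfl | rfl | rfl | rfl | rfl | rfl | rfl | rfl | rfl | rfl | rfl | rfl | rfl | rfl | rfl | rfl | rfl | rfl | rfl | rfl | rfl | rfl | rfl | rfl | rfl | rfl | rfl | rfl | rfl | rfl | rfl | rfl | rfl | rfl | rfl | rfl | rfl | rfl | rfl : b = 0 ∨ b = 1 ∨ b = 2 ∨ b = 3 ∨ b = 4 ∨ b = 5 ∨ b = 6 ∨ b = 7 ∨ b = 8 ∨ b = 9 ∨ b = 10 ∨ b = 11 ∨ b = 12 ∨ b = 13 ∨ b = 14 ∨ b = 15 ∨ b = 16 ∨ b = 17 ∨ b = 18 ∨ b = 19 ∨ b = 20 ∨ b = 21 ∨ b = 22 ∨ b = 23 ∨ b = 24 ∨ b = 25 ∨ b = 26 ∨ b = 27 ∨ b = 28 ∨ b = 29 ∨ b = 30 ∨ b = 31 ∨ b = 32 ∨ b = 33 ∨ b = 34 ∨ b = 35 ∨ b = 36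 ∨ b = 37 ∨ b = 38 ∨ b = 39 ∨ b = 40 ∨ b = 41 ∨ b = 42 ∨ b = 43 ∨ b = 44 ∨ b = 45 ∨ b = 46 ∨ b = 47 ∨ b = 48 ∨ b = 49 := by omega
    exacts [certG23_block0, certG23_block1, certG23_block2, certG23_block3, certG23_block4, certG23_block5, certG23_block6, certG23_block7, certG23_block8, certG23_block9, certG23_block10, certG23_block11, certG23_block12, certG23_block13, certG23_block14, certG23_block15, certG23_block16, certG23_block17, certG23_block18, certG23_block19, certG23_block20, certG23_block21, certG23_block22, certG23_block23, certG23_block24, certG23_block25, certG23_block26, certG23_block27, certG23_block28, certG23_block29, certG23_block30, certG23_block31, certG23_block32, certG23_block33, certG23_block34, certG23_block35, certG23_block36, certG23_block37, certG23_block38, certG23_block39, certG23_block40, certG23_block41, certG23_block42, certG23_block43, certG23_block44, certG23_block45, certG23_block46, certG23_block47, certG23_block48, certG23_block49]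
  words := certG23_shape.2
  closed b hb := by
    have h : certG23.n = 31671 := rfl
    obtain rfl | rfl | rfl | rfl | rfl | rfl | rfl | rfl | rfl | rfl | rfl | rfl | rfl | rfl | rfl | rfl | rfl | rfl | rfl | rfl | rfl | rfl | rfl | rfl | rfl | rfl | rfl | rfl | rfl | rfl | rfl | rfl : b = 0 ∨ b = 1 ∨ b = 2 ∨ b = 3 ∨ b = 4 ∨ b = 5 ∨ b = 6 ∨ b = 7 ∨ b = 8 ∨ b = 9 ∨ b = 10 ∨ b = 11 ∨ b = 12 ∨ b = 13 ∨ b = 14 ∨ b = 15 ∨ b = 16 ∨ b = 17 ∨ b = 18 ∨ b = 19 ∨ b = 20 ∨ b = 21 ∨ b = 22 ∨ b = 23 ∨ b = 24 ∨ b = 25 ∨ b = 26 ∨ b = 27 ∨ b = 28 ∨ b = 29 ∨ b = 30 ∨ b = 31 := by omega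
    exacts [certG23_closedBlock0, certG23_closedBlock1, certG23_closedBlock2, certG23_closedBlock3, certG23_closedBlock4, certG23_closedBlock5, certG23_closedBlock6, certG23_closedBlock7, certG23_closedBlock8, certG23_closedBlock9, certG23_closedBlock10, certG23_closedBlock11, certG23_closedBlock12, certG23_closedBlock13, certG23_closedBlock14, certG23_closedBlock15, certG23_closedBlock16, certG23_closedBlock17, certG23_closedBlock18, certG23_closedBlock19, certG23_closedBlock20, certG23_closedBlock21, certG23_closedBlock22, certG23_closedBlock23, certG23_closedBlock24, certG23_closedBlock25, certG23_closedBlock26, certG23_closedBlock27, certG23_closedBlock28, certG23_closedBlock29, certG23_closedBlock30, certG23_closedBlock31]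

end CfsgLib.Fi23P
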