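import Cfsg.Agent.Lib.Fi23P.Perm
import Cfsg.Agent.Lib.Fi22P.Perm
import Cfsg.Prelude.Def_SporadicB

/-!
The subgroup of index 31671 is a non-split double cover of the smaller Fischer group.
-/

set_option autoImplicit false
set_option maxRecDepth 100000

namespace CfsgLib.Fi23P

open CfsgLib.PresCert Cfsg.Spor
open CfsgLib.PresCert.Fast

attribute [local irreducible] relShort levels wordA rootWords baseL CfsgLib.Fi22P.levels

/-- The central involution in the subgroup. -/
def tH : subH := ⟨eltT, wordT_eq⟩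

theorem tH_center : tH ∈ Subgroup.center subH :=
  Subgroup.mem_center_iff.2 fun g => Subtype.ext (t_central g.2).symm

theorem zT_normal : (Subgroup.zpowers tH).Normal :=
  ⟨fun n hn g => by
    have h : n ∈ Subgroup.center subH := Subgroup.zpowers_le.2 tH_center hn
    rw [Subgroup.mem_center_iff.1 h g, mul_inv_cancel_right]
    exact hn⟩

/-- The quotient by the central involution. -/
abbrev QH : Type := subH ⧸ Subgroup.zpowers tH

instance instZNormal : (Subgroup.zpowers tH).Normal := zT_normal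

theorem mapIx_mem (g : ℕ) : [mapIx g] ∈ sH := by
  by_cases h : g < 9
  · interval_cases g <;> decide
  · rw [mapIx, List.getD_eq_default _ _ (by simp; omega)]
    decide

/-- A generator of the quotient. -/
def qGen (g : ℕ) : QH :=
  QuotientGroup.mk' _ ⟨fiGen (mapIx g), Subgroup.subset_closure ⟨[mapIx g], mapIx_mem g, by
    rw [act_cons, act_nil, one_mul]⟩⟩

theorem qGen_sq (g : ℕ) : qGen g * qGen g = 1 := by
  rw [qGen, ← map_mul]
  refine (congrArg _ ?_).trans (map_one _)
  refine Subtype.ext ?_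
  rw [Subgroup.coe_mul]
  refine fiGen_sq _ ?_
  by_cases h : g < 9
  · interval_cases g <;> decide
  · rw [mapIx, List.getD_eq_default _ _ (by simp; omega)]
    norm_num

theorem act_qGen : ∀ w : List ℕ, ∃ x : subH, x.1 = act fiGen (w.map mapIx) ∧
    act qGen w = QuotientGroup.mk' _ x
  | [] => ⟨1, rfl, (map_one _).symm⟩
  | g :: w => by
    obtain ⟨x, hx, e⟩ := act_qGen w
    refine ⟨x * ⟨fiGen (mapIx g), Subgroup.subset_closure ⟨[mapIx g], mapIx_mem g, by
      rw [act_cons, act_nil, one_mul]⟩⟩, ?_, ?_⟩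
    · simp only [Subgroup.coe_mul, hx, List.map_cons, act_cons]
    · rw [map_mul, act_cons, e]
      rfl

theorem rels_mapped : CfsgLib.Fi22P.fiData.rels.all (fun w =>
    sameBase (w.map mapIx) [] || sameBase (w.map mapIx) wordT) = true := by
  decide +kernel

theorem qGen_rels : ∀ w ∈ CfsgLib.Fi22P.fiData.rels, act qGen w = 1 := by
  intro w hw
  obtain ⟨x, hx, e⟩ := act_qGen w
  have h := List.all_eq_true.1 rels_mapped w hw
  rw [Bool.or_eq_true] at h
  rw [e]
  refine (QuotientGroup.eq_one_iff x).2 ?_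
  rcases h with h | h
  · rw [show x = 1 from Subtype.ext (hx.trans ((eq_of_base h).trans (act_nil _)))]
    exact Subgroup.one_mem _
  · rw [show x = tH from Subtype.ext (hx.trans (eq_of_base h))]
    exact Subgroup.mem_zpowers _

theorem lift_act (L : List (Cfsg.Spor.Fi22.Gen × Bool)) :
    FreeGroup.lift (fun x => qGen (CfsgLib.Fi22P.genIx x)) (FreeGroup.mk L) =
      act qGen (L.map fun p => CfsgLib.Fi22P.genIx p.1).reverse := by
  induction L with
  | nil =>
    rw [← FreeGroup.one_eq_mk, map_one]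
    rfl
  | cons p L ih =>
    obtain ⟨x, b⟩ := p
    rw [show FreeGroup.mk ((x, b) :: L) = FreeGroup.mk [(x, b)] * FreeGroup.mk L from rfl, map_mul,
      ih, List.map_cons, List.reverse_cons, act_append, act_cons, act_nil, one_mul]
    congr 1
    cases b
    · have e : FreeGroup.mk [(x, false)] = (FreeGroup.of x)⁻¹ := rfl
      rw [e, map_inv, FreeGroup.lift_apply_of]
      exact inv_eq_of_mul_eq_one_right (qGen_sq _)
    · exact FreeGroup.lift_apply_of

/-- The map from the smaller Fischer group. -/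
noncomputable def psi : Cfsg.Spor.Fi22 →* QH :=
  PresentedGroup.toGroup (f := fun x => qGen (CfsgLib.Fi22P.genIx x)) fun r hr => by
    rw [← FreeGroup.mk_toWord (x := r), lift_act]
    exact qGen_rels _ (List.mem_map.2
      ⟨r, (CoxData.relList_mem (P := CfsgLib.Fi22P.fiData)).2 hr, rfl⟩)

theorem psi_gen (x : Cfsg.Spor.Fi22.Gen) :
    psi (PresentedGroup.of x) = qGen (CfsgLib.Fi22P.genIx x) := PresentedGroup.toGroup.of _

theorem psi_surjective : Function.Surjective psi := by
  intro y
  obtain ⟨x, rfl⟩ := QuotientGroup.mk'_surjective _ y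
  suffices h : subH ≤ (psi.range.comap (QuotientGroup.mk' (Subgroup.zpowers tH))).map
      subH.subtype by
    obtain ⟨z, hz, e⟩ := h x.2
    rw [show x = z from Subtype.ext e.symm]
    exact hz
  refine (Subgroup.closure_le _).2 ?_
  rintro _ ⟨w, hw, rfl⟩
  obtain ⟨g, hg, rfl⟩ : ∃ g, g < 9 ∧ w = [mapIx g] := by
    simp only [sH, List.mem_cons, List.not_mem_nil, or_false] at hw
    rcases hw with rfl | rfl | rfl | rfl | rfl | rfl | rfl | rfl | rfl
    exacts [⟨0, by norm_num, rfl⟩, ⟨1, by norm_num, rfl⟩, ⟨2, by norm_num, rfl⟩,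
      ⟨3, by norm_num, rfl⟩, ⟨4, by norm_num, rfl⟩, ⟨5, by norm_num, rfl⟩, ⟨6, by norm_num, rfl⟩,
      ⟨7, by norm_num, rfl⟩, ⟨8, by norm_num, rfl⟩]
  refine ⟨⟨fiGen (mapIx g), Subgroup.subset_closure ⟨[mapIx g], mapIx_mem g, by
    rw [act_cons, act_nil, one_mul]⟩⟩, ?_, ?_⟩
  · obtain ⟨x, hx⟩ : ∃ x, CfsgLib.Fi22P.genIx x = g :=
      ⟨CfsgLib.Fi22P.fiData.at'.getD g CfsgLib.Fi22P.fiData.dflt,
        CfsgLib.Fi22P.fi_ok.ix_at g hg⟩
    exact ⟨PresentedGroup.of x, by rw [psi_gen, hx]; rfl⟩
  · show fiGen (mapIx g) = _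
    rw [act_cons, act_nil, one_mul]

theorem order_tH : orderOf tH = 2 :=
  orderOf_eq_prime (by rw [pow_two]; exact Subtype.ext t_sq)
    fun e => t_ne_one (congrArg Subtype.val e)

theorem psi_bijective : Function.Bijective psi := by
  haveI := card_fi.1
  haveI := CfsgLib.Fi22P.card_fi.1
  refine (Nat.bijective_iff_surjective_and_card _).2 ⟨psi_surjective, ?_⟩
  have h := (Subgroup.zpowers tH).card_eq_card_quotient_mul_card_subgroup
  rw [subH_spec.2.1, Nat.card_zpowers, order_tH] at h
  rw [CfsgLib.Fi22P.card_fi.2]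
  have h' : 129123503308800 = Nat.card QH * 2 := h
  omega

/-- The isomorphism with the smaller Fischer group. -/
noncomputable def quotIso : QH ≃* Cfsg.Spor.Fi22 := (MulEquiv.ofBijective psi psi_bijective).symm

theorem center_eq : Subgroup.center subH = Subgroup.zpowers tH := by
  haveI := CfsgLib.Fi22P.card_fi.1
  haveI := CfsgLib.Fi22P.simple
  refine le_antisymm (fun z hz => ?_) (Subgroup.zpowers_le.2 tH_center)
  have hbot : Subgroup.center Cfsg.Spor.Fi22 = ⊥ := by
    refine (inferInstance : (Subgroup.center Cfsg.Spor.Fi22).Normal).eq_bot_or_eq_top.resolve_right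
      fun h => ?_
    have hc := CfsgLib.Fi22P.hom_trivial (MonoidHom.id Cfsg.Spor.Fi22) fun z => by
      exact (Subgroup.mem_center_iff.1 (h ▸ Subgroup.mem_top z) _)
    haveI : Subsingleton Cfsg.Spor.Fi22 := ⟨fun a b => (hc a).trans (hc b).symm⟩
    have h1 := Finite.card_le_one_iff_subsingleton.2 (inferInstance : Subsingleton Cfsg.Spor.Fi22)
    rw [CfsgLib.Fi22P.card_fi.2] at h1
    norm_num at h1
  have hmem : quotIso (QuotientGroup.mk' _ z) ∈ Subgroup.center Cfsg.Spor.Fi22 := by
    refine Subgroup.mem_center_iff.2 fun y => ?_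
    obtain ⟨u, hu⟩ := QuotientGroup.mk'_surjective _ (quotIso.symm y)
    rw [show y = quotIso (QuotientGroup.mk' _ u) by rw [hu, MulEquiv.apply_symm_apply],
      ← map_mul, ← map_mul, ← map_mul, ← map_mul, Subgroup.mem_center_iff.1 hz u]
  rw [hbot, Subgroup.mem_bot, EmbeddingLike.map_eq_one_iff] at hmem
  exact (QuotientGroup.eq_one_iff z).1 hmem

/-- A homomorphism to a commutative group kills the central involution. -/
theorem t_killed {A : Type*} [CommGroup A] (f : subH →* A) : f tH = 1 := by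
  let y : ℕ → subH := fun g => ⟨fiGen (mapIx g), Subgroup.subset_closure ⟨[mapIx g], mapIx_mem g,
    by rw [act_cons, act_nil, one_mul]⟩⟩
  have hsq : ∀ g, g < 9 → f (y g) * f (y g) = 1 := fun g hg => by
    rw [← map_mul, show y g * y g = 1 from Subtype.ext (by
      show fiGen (mapIx g) * fiGen (mapIx g) = 1
      exact fiGen_sq _ (by interval_cases g <;> decide)), map_one]
  have heq : ∀ a b : ℕ, a < 9 → b < 9 →
      sameBase [mapIx a, mapIx b, mapIx a, mapIx b, mapIx a, mapIx b] [] = true →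
      f (y a) = f (y b) := by
    intro a b ha hb h
    have e : y b * y a * (y b * y a) * (y b * y a) = 1 := Subtype.ext (by
      have h1 := eq_of_base h
      simp only [act_cons, act_nil, one_mul] at h1
      simp only [y, Subgroup.coe_mul, OneMemClass.coe_one, ← mul_assoc]
      exact h1)
    have e2 := congrArg f e
    simp only [map_mul, map_one] at e2
    have e3 : f (y b) * f (y a) * (f (y b) * f (y b)) * (f (y a) * f (y a)) = 1 := by
      rw [← e2]
      ac_rfl
    rw [hsq a ha, hsq b hb, mul_one, mul_one] at e3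
    rw [eq_inv_of_mul_eq_one_left e3]
    exact eq_inv_of_mul_eq_one_left (hsq a ha)
  have edge : ([(0, 1), (1, 2), (2, 3), (3, 4), (3, 7), (4, 5), (5, 6)] : List (ℕ × ℕ)).all
      (fun e => sameBase [mapIx e.1, mapIx e.2, mapIx e.1, mapIx e.2, mapIx e.1, mapIx e.2] []) =
        true := by decide +kernel
  simp only [List.all_cons, List.all_nil, Bool.and_true, Bool.and_eq_true] at edge
  obtain ⟨h01, h12, h23, h34, h37, h45, h56⟩ := edge
  have e01 := heq 0 1 (by norm_num) (by norm_num) h01
  have e12 := e01.trans (heq 1 2 (by norm_num) (by norm_num) h12)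
  have e23 := e12.trans (heq 2 3 (by norm_num) (by norm_num) h23)
  have e34 := e23.trans (heq 3 4 (by norm_num) (by norm_num) h34)
  have e37 := e23.trans (heq 3 7 (by norm_num) (by norm_num) h37)
  have e45 := e34.trans (heq 4 5 (by norm_num) (by norm_num) h45)
  have e56 := e45.trans (heq 5 6 (by norm_num) (by norm_num) h56)
  have hall : ∀ c ∈ ([0, 1, 2, 3, 4, 5, 6, 7] : List ℕ), f (y c) = f (y 0) := by
    simp only [List.forall_mem_cons, List.not_mem_nil, false_implies, implies_true, and_true]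
    exact ⟨trivial, e01.symm, e12.symm, e23.symm, e34.symm, e45.symm, e56.symm, e37.symm⟩
  have hword : ∀ w : List ℕ, (∀ c ∈ w, c ∈ ([0, 1, 2, 3, 4, 5, 6, 7] : List ℕ)) → ∃ x : subH,
      x.1 = act fiGen (w.map mapIx) ∧ f x = f (y 0) ^ w.length := by
    intro w
    induction w with
    | nil => exact fun _ => ⟨1, rfl, by rw [map_one, List.length_nil, pow_zero]⟩
    | cons c w ih =>
      intro hw
      obtain ⟨x, hx, hfx⟩ := ih fun d hd => hw d (List.mem_cons_of_mem _ hd)
      refine ⟨x * y c, ?_, ?_⟩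
      · simp only [Subgroup.coe_mul, hx, List.map_cons, act_cons]
        rfl
      · rw [map_mul, hfx, hall c (hw c List.mem_cons_self), List.length_cons, pow_succ]
  obtain ⟨x, hx, hfx⟩ := hword (List.replicate 9 ([0, 1, 2, 3, 4, 5, 7] : List ℕ)).flatten (by
    decide)
  obtain ⟨x', hx', hfx'⟩ := hword (List.replicate 9 ([1, 2, 3, 4, 5, 6, 7] : List ℕ)).flatten (by
    decide)
  have h63 : sameBase ((List.replicate 9 ([0, 1, 2, 3, 4, 5, 7] : List ℕ)).flatten.map mapIx) [] =
      true := by decide +kernel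
  rw [show x = 1 from Subtype.ext (hx.trans ((eq_of_base h63).trans (act_nil _))), map_one,
    show ((List.replicate 9 ([0, 1, 2, 3, 4, 5, 7] : List ℕ)).flatten).length = 63 from rfl] at hfx
  rw [show x' = tH from Subtype.ext hx',
    show ((List.replicate 9 ([1, 2, 3, 4, 5, 6, 7] : List ℕ)).flatten).length = 63 from rfl,
    ← hfx] at hfx'
  exact hfx'

theorem no_complement (L : Subgroup subH) : ¬ (Subgroup.center subH).IsComplement' L := by
  haveI := card_fi.1
  intro hL
  have hi : L.index = 2 := by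
    rw [hL.index_eq_card, center_eq, Nat.card_zpowers, order_tH]
  haveI := Subgroup.normal_of_index_eq_two hi
  haveI : Fact (Nat.card (subH ⧸ L)).Prime := ⟨by
    rw [← Subgroup.index_eq_card, hi]; exact Nat.prime_two⟩
  haveI : IsCyclic (subH ⧸ L) := isCyclic_of_prime_card rfl
  letI : CommGroup (subH ⧸ L) := IsCyclic.commGroup
  have h := t_killed (QuotientGroup.mk' L)
  have hmem : tH ∈ L := (QuotientGroup.eq_one_iff tH).1 h
  have := Subgroup.disjoint_def.1 hL.disjoint tH_center hmem
  exact t_ne_one (congrArg Subtype.val this)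

theorem double_cover : Cfsg.IsNonsplitDoubleCover subH Cfsg.Spor.Fi22 :=
  ⟨by rw [center_eq, Nat.card_zpowers, order_tH],
    ⟨(QuotientGroup.quotientMulEquivOfEq center_eq).trans quotIso⟩, no_complement⟩

theorem printed_eq :
    (Subgroup.closure ({Fi23.a, Fi23.b, Fi23.c, Fi23.d, Fi23.e, Fi23.f, Fi23.g, Fi23.h, Fi23.i} :
      Set (FreeGroup Fi23.Gen))).map
      (PresentedGroup.mk (coxRelators Fi23.edges ∪ {r | r ∈ Fi23.extra})) = subH := by
  have hset : ({Fi23.a, Fi23.b, Fi23.c, Fi23.d, Fi23.e, Fi23.f, Fi23.g, Fi23.h, Fi23.i} :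
      Set (FreeGroup Fi23.Gen)) =
      {r | r ∈ ([.a, .b, .c, .d, .e, .f, .g, .h, .i] : List Fi23.Gen).map FreeGroup.of} := by
    ext r
    simp
  rw [hset]
  exact CoxData.map_closure (P := fiData) fi_ok [.a, .b, .c, .d, .e, .f, .g, .h, .i]

theorem orbit_of_label {k : ℕ} (hk : k < 3) :
    ∃ q : Cfsg.Spor.Fi23 ⧸ subH,
      (MulAction.orbit subH q).ncard = [1, 3510, 28160].getD k 0 := by
  haveI := card_fi.1
  have hk' : k < forest.roots.length := forest_zero.1.symm ▸ hk
  obtain ⟨h1, h2⟩ := forest_ok.root hk'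
  obtain ⟨q, hq, -⟩ := forest_ok.coset_orbit realised zero_lt subH_eq
    (card_trans realised zero_lt tree_ok).1 ⟨_, h1⟩
  refine ⟨q, hq.trans ?_⟩
  simp only [h2]
  exact forest_count hk

end CfsgLib.Fi23P
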