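import Cfsg.Agent.Lib.Fi23P.MultCerts
import Cfsg.Prelude.Def_KGroupFacts

/-!
Stem extensions of the presented Fischer group of degree 31671 are trivial.
-/

set_option autoImplicit false
set_option maxRecDepth 100000

namespace CfsgLib.Fi23P

open CfsgLib.PresCert Cfsg.Spor
open scoped commutatorElement

attribute [local irreducible] relShort levels wordA rootWords baseL certU6 certU8 certE8 certD5 certE6 certE7 reflData orbPts orbPar certU6Origin certU8Origin

section Generic

variable {M : Type*} [Group M] {x : ℕ → M}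

/-- A coset is fixed by the words of its subgroup. -/
theorem coset_fix {S : List (List ℕ)} {w : List ℕ} (h : w ∈ S) :
    act x w • ((1 : M) : M ⧸ genGrp S x) = ((1 : M) : M ⧸ genGrp S x) := by
  rw [MulAction.Quotient.smul_coe, smul_eq_mul, mul_one, QuotientGroup.eq, mul_one]
  exact inv_mem (Subgroup.subset_closure ⟨w, h, rfl⟩)

theorem coset_mem {S : List (List ℕ)} {m : M}
    (h : m • ((1 : M) : M ⧸ genGrp S x) = ((1 : M) : M ⧸ genGrp S x)) : m ∈ genGrp S x := by
  rw [MulAction.Quotient.smul_coe, smul_eq_mul, mul_one, QuotientGroup.eq, mul_one] at h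
  exact inv_inv m ▸ inv_mem h

/-- One step of a chain, for any involutions satisfying the short relations. -/
theorem step_ext (hsq : ∀ g, g < 10 → x g * x g = 1) (hrel : ∀ w ∈ relShort, act x w = 1)
    {D : Data} {S W : List (List ℕ)} {a b : ℕ} (hD : Closed D W) (hng : D.ng = 10)
    (hr : relsOk D relShort = true) (hs : subsOk D S (16 * D.words.length) = true)
    (hS : Finite (genGrp S x) ∧ Nat.card (genGrp S x) ≤ a) (hab : D.n * a ≤ b) :
    Finite (genGrp W x) ∧ Nat.card (genGrp W x) ≤ b := by
  haveI := hS.1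
  have H : Hyp D x ((1 : M) : M ⧸ genGrp S x) :=
    hyp_of_checks (fun g hg => hsq g (hng ▸ hg)) hrel (fun w hw => coset_fix hw) hr hs
  obtain ⟨h1, h2⟩ := card_le hD H
  exact ⟨h1, h2.trans ((Nat.mul_le_mul_left _ hS.2).trans hab)⟩

/-- The hypotheses of a derivation whose words are named rotations of the relations. -/
theorem hyp_origin {D : Data} {L : List (ℕ × ℕ)} {S : List (List ℕ)}
    (hng : D.ng = 10) (hsq : ∀ g, g < 10 → x g * x g = 1) (hrel : ∀ w ∈ extRels, act x w = 1)
    (h1 : originOk D L = true) (h2 : subsOk D S (16 * D.words.length) = true) :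
    Hyp D x ((1 : M) : M ⧸ genGrp S x) := by
  refine ⟨fun g hg => hsq g (hng ▸ hg), fun r hr y => ?_, fun r hr => ?_⟩
  · simp only [originOk, List.all_eq_true, List.mem_range, decide_eq_true_eq] at h1
    rw [h1 r hr]
    have key : act x (originWord (L.getD r (0, 0))) = 1 := by
      have hv : ∀ k, act x (extRels.getD k []) = 1 ∧ act x (extRels.getD k []).reverse = 1 := by
        intro k
        by_cases hk : k < extRels.length
        · rw [List.getD_eq_getElem _ _ hk]
          have hm := List.getElem_mem hk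
          refine ⟨hrel _ hm, ?_⟩
          have hl := small_words.2.2.2.2.1
          simp only [List.all_eq_true, Nat.blt_eq] at hl
          rw [act_reverse hsq (hl _ hm), hrel _ hm, inv_one]
        · rw [List.getD_eq_default _ _ (Nat.le_of_not_lt hk)]
          exact ⟨rfl, rfl⟩
      simp only [originWord]
      refine act_rotate ?_ _
      split_ifs
      exacts [(hv _).2, (hv _).1]
    rw [key, one_smul]
  · simp only [subsOk, List.all_eq_true, List.mem_range, Bool.or_eq_true, Nat.blt_eq,
      decide_eq_true_eq, List.any_eq_true] at h2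
    by_cases ht : r < 16 * D.words.length
    · rcases h2 r ht with e | e | ⟨v, hv, e⟩
      · omega
      · rw [e, act_nil, one_smul]
      · rw [e]; exact coset_fix hv
    · have e : wordAt D r = ([], D.ng, []) := by
        rw [wordAt, List.getD_eq_default _ _ (show D.words.length ≤ r / 16 by omega)]
        rfl
      rw [e]
      simp [act_nil]

/-- A word against its reverse. -/
theorem act_mul_reverse {z : M} (hz : ∀ y, y * z = z * y) :
    ∀ {w : List ℕ}, (∀ g ∈ w, x g * x g = z) → act x w * act x w.reverse = z ^ w.length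
  | [], _ => by simp [act_nil]
  | g :: w, hw => by
    rw [List.reverse_cons, act_append, act_cons, act_cons, act_nil, one_mul, List.length_cons,
      pow_succ, ← act_mul_reverse hz (w := w) fun a ha => hw a (List.mem_cons_of_mem _ ha)]
    calc act x w * x g * (x g * act x w.reverse) = act x w * (x g * x g) * act x w.reverse := by
          simp only [mul_assoc]
      _ = act x w * (z * act x w.reverse) := by rw [hw g List.mem_cons_self, mul_assoc]
      _ = act x w * act x w.reverse * z := by rw [← hz, mul_assoc]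

/-- A word in generators multiplied by a central element. -/
theorem act_mul_central {x' : ℕ → M} {k : M} (hk : ∀ y, y * k = k * y) :
    ∀ {w : List ℕ}, (∀ g ∈ w, x' g = x g * k) → act x' w = act x w * k ^ w.length
  | [], _ => by simp [act_nil]
  | g :: w, hw => by
    rw [act_cons, act_cons, List.length_cons, pow_succ, hw g List.mem_cons_self,
      act_mul_central hk (w := w) fun a ha => hw a (List.mem_cons_of_mem _ ha)]
    have hp : ∀ y, y * k ^ w.length = k ^ w.length * y := fun y =>
      (Commute.pow_right (show Commute y k from hk y) _).eq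
    calc act x w * k ^ w.length * (x g * k) = act x w * (k ^ w.length * x g) * k := by
          simp only [mul_assoc]
      _ = act x w * (x g * k ^ w.length) * k := by rw [hp]
      _ = _ := by simp only [mul_assoc]

/-- Rotating a factor of a central ninth power. -/
theorem rot_pow {X Y : M} (h : ∀ y, y * (X * Y) ^ 9 = (X * Y) ^ 9 * y) :
    (Y * X) ^ 9 = (X * Y) ^ 9 := by
  have e : Y * X = X⁻¹ * (X * Y) * X⁻¹⁻¹ := by group
  rw [e, conj_pow, h X⁻¹, inv_inv, inv_mul_cancel_right]

theorem lift_word (hsq : ∀ g, g < 10 → x g * x g = 1) (L : List (Fi23.Gen × Bool)) :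
    FreeGroup.lift (fun g => x (genIx g)) (FreeGroup.mk L) =
      act x (L.map fun p => genIx p.1).reverse := by
  induction L with
  | nil =>
    rw [← FreeGroup.one_eq_mk, map_one]
    rfl
  | cons p L ih =>
    obtain ⟨g, b⟩ := p
    rw [show FreeGroup.mk ((g, b) :: L) = FreeGroup.mk [(g, b)] * FreeGroup.mk L from rfl, map_mul,
      ih, List.map_cons, List.reverse_cons, act_append, act_cons, act_nil, one_mul]
    congr 1
    cases b
    · have e : FreeGroup.mk [(g, false)] = (FreeGroup.of g)⁻¹ := rfl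
      rw [e, map_inv, FreeGroup.lift_apply_of]
      exact inv_eq_of_mul_eq_one_right (hsq _ (fi_ok.ix_lt g))
    · exact FreeGroup.lift_apply_of

end Generic

/-! ### Subgroups of the group itself -/

/-- The letters of the subgroup of type E6. -/
def w6 : List (List ℕ) := [[1], [2], [3], [4], [5], [8]]

/-- The letters of the subgroup of type E7. -/
def w7 : List (List ℕ) := [[1], [2], [3], [4], [5], [6], [8]]

theorem image_card : Nat.card (genGrp w6 fiGen) = 51840 ∧
    Nat.card (genGrp w7 fiGen) = 2903040 := by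
  obtain ⟨a1, a2, a3, a4⟩ := certD5_words
  obtain ⟨b1, b2, b3, b4⟩ := certE6_words
  obtain ⟨c1, c2, c3, c4⟩ := certE7_words
  obtain ⟨d1, d2, d3, d4⟩ := certO7_words
  obtain ⟨e1, e2, e3, e4⟩ := certG22_words
  have hA := step (b := 1920) certD5_closed a3 a1 a2 triv_le (by rw [a4])
  have hB := step (b := 51840) certE6_closed b3 b1 b2 hA (by rw [b4])
  have hC := step (b := 56 * Nat.card (genGrp w6 fiGen)) certE7_closed c3 c1 c2
    ⟨hB.1, le_rfl⟩ (by rw [c4]; rfl)
  have hD := step (b := 3159 * Nat.card (genGrp w7 fiGen)) certO7_closed d3 d1 d2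
    ⟨hC.1, le_rfl⟩ (by rw [d4]; rfl)
  have hE : Finite subH ∧ Nat.card subH ≤ 14080 * (3159 * Nat.card (genGrp w7 fiGen)) :=
    step (b := 14080 * (3159 * Nat.card (genGrp w7 fiGen))) certG22_closed e3 e1 e2 hD (by rw [e4])
  have h1 : Nat.card (genGrp w6 fiGen) ≤ 51840 := hB.2
  have h2 : Nat.card (genGrp w7 fiGen) ≤ 56 * Nat.card (genGrp w6 fiGen) := hC.2
  have h3 := hE.2
  rw [subH_spec.2.1] at h3
  omega

theorem level_word_mem {S : List (List ℕ)} {l : Fast.Level} (h : ∀ w ∈ l.gens, w ∈ S) :
    ∀ fu k, act fiGen (l.word fu k) ∈ genGrp S fiGen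
  | 0, _ => Subgroup.one_mem _
  | fu + 1, k => by
    simp only [Fast.Level.word]
    split_ifs with h0
    · exact Subgroup.one_mem _
    · rw [act_append]
      refine Subgroup.mul_mem _ ?_ (level_word_mem h fu _)
      by_cases hc : (l.par.getD (k - 1) (0, 0)).1 < l.gens.length
      · rw [List.getD_eq_getElem _ _ hc]
        exact Subgroup.subset_closure ⟨_, h _ (List.getElem_mem hc), rfl⟩
      · rw [List.getD_eq_default _ _ (Nat.le_of_not_lt hc)]
        exact Subgroup.one_mem _

theorem lev8_base : lev8.base = 0 := rfl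

theorem lev8_gens : ∀ w ∈ lev8.gens, w ∈ w8 := fun _ hw => hw

attribute [local irreducible] lev8

theorem image_e8 : 348364800 ≤ Nat.card (genGrp w8 fiGen) := by
  haveI := card_fi.1
  have hok := lev8_ok.1
  have hlen := lev8_ok.2
  have hspec := Fast.level_spec realised hok
  simp only [Fast.levelOk, Bool.and_eq_true] at hok
  have hnd := (Fast.nodupB_spec hok.2).1
  have hmono : ∀ g ∈ genGrp w7 fiGen, g ∈ genGrp w8 fiGen ∧ g ∈ Fast.fixSub phi [0] := by
    intro g hg
    refine ⟨?_, subH_le ?_⟩ <;> refine Subgroup.closure_mono ?_ hg <;> rintro _ ⟨w, hw, rfl⟩ <;>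
      refine ⟨w, ?_, rfl⟩
    · exact (show ∀ w ∈ w7, w ∈ w8 by decide) w hw
    · exact (show ∀ w ∈ w7, w ∈ sH by decide) w hw
  let f : Fin lev8.pts.length × genGrp w7 fiGen → genGrp w8 fiGen := fun p =>
    ⟨act fiGen (lev8.word (p.1.val + 1) p.1.val) * p.2.1,
      Subgroup.mul_mem _ (level_word_mem (S := w8) (l := lev8) lev8_gens (p.1.val + 1) p.1.val) (hmono _ p.2.2).1⟩
  have hpt : ∀ p, ((phi (f p).1 ⟨0, zero_lt⟩ : Fin tab.n) : ℕ) = lev8.pts.getD p.1.val 0 := by
    intro p
    obtain ⟨w1, -, w3⟩ := hspec p.1.val p.1.isLt (p.1.val + 1) (Nat.lt_succ_self _)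
    show ((phi (act fiGen _ * p.2.1) ⟨0, zero_lt⟩ : Fin tab.n) : ℕ) = _
    rw [map_mul, Equiv.Perm.mul_apply,
      (hmono _ p.2.2).2 ⟨0, zero_lt⟩ (List.mem_singleton.2 rfl), realised.act_apply w1]
    rw [lev8_base] at w3
    exact w3
  have hf : Function.Injective f := by
    intro a b e
    have e1 := congrArg (fun g : genGrp w8 fiGen => ((phi g.1 ⟨0, zero_lt⟩ : Fin tab.n) : ℕ)) e
    rw [hpt, hpt, List.getD_eq_getElem _ _ a.1.isLt, List.getD_eq_getElem _ _ b.1.isLt] at e1
    have e2 : a.1 = b.1 := Fin.ext (hnd.getElem_inj_iff.1 e1)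
    have e3 := congrArg Subtype.val e
    simp only [f, e2] at e3
    exact Prod.ext e2 (Subtype.ext (mul_left_cancel e3))
  have h := Nat.card_le_card_of_injective f hf
  rw [Nat.card_prod, Nat.card_fin, hlen, image_card.2] at h
  exact h

/-! ### The extension -/

section Extension

variable {E : Type*} [Group E] {σ : E →* Cfsg.Spor.Fi23}

/-- The conjugating elements of the generators. -/
noncomputable def conjBy (i : ℕ) : Cfsg.Spor.Fi23 := if h : i < 10 then (gen_conj i h).choose else 1

variable (hs : Function.Surjective σ) (hc : σ.ker ≤ Subgroup.center E) (τ : E)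

/-- The lifts of the generators. -/
noncomputable def liftGen (i : ℕ) : E :=
  Function.surjInv hs (conjBy i) * τ * (Function.surjInv hs (conjBy i))⁻¹

theorem liftGen_inD (i : ℕ) : InD τ (liftGen hs τ i) := ⟨_, rfl⟩

theorem map_liftGen (hτ : σ τ = eltT) {i : ℕ} (hi : i < 10) : σ (liftGen hs τ i) = fiGen i := by
  rw [liftGen, map_mul, map_mul, map_inv, Function.surjInv_eq hs, hτ, conjBy, dif_pos hi]
  exact (gen_conj i hi).choose_spec.symm

theorem map_act (hτ : σ τ = eltT) : ∀ {w : List ℕ}, (∀ g ∈ w, g < 10) →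
    σ (act (liftGen hs τ) w) = act fiGen w
  | [], _ => map_one σ
  | g :: w, hw => by
    rw [act_cons, act_cons, map_mul, map_act hτ (fun a ha => hw a (List.mem_cons_of_mem _ ha)),
      map_liftGen hs τ hτ (hw g List.mem_cons_self)]

theorem map_genGrp (hτ : σ τ = eltT) {S : List (List ℕ)} (hS : ∀ w ∈ S, ∀ g ∈ w, g < 10) :
    (genGrp S (liftGen hs τ)).map σ = genGrp S fiGen := by
  rw [genGrp, MonoidHom.map_closure, genGrp]
  congr 1
  ext m
  constructor
  · rintro ⟨_, ⟨w, hw, rfl⟩, rfl⟩
    exact ⟨w, hw, (map_act hs τ hτ (hS w hw)).symm⟩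
  · rintro ⟨w, hw, rfl⟩
    exact ⟨_, ⟨w, hw, rfl⟩, map_act hs τ hτ (hS w hw)⟩

/-- A subgroup no larger than its image meets the kernel trivially. -/
theorem eq_one_of_card {G : Subgroup E} [Finite G] (h : Nat.card G ≤ Nat.card (G.map σ)) {u : E}
    (hu : u ∈ G) (h1 : σ u = 1) : u = 1 := by
  have hs' := MonoidHom.subgroupMap_surjective σ G
  have hb : Function.Bijective (σ.subgroupMap G) :=
    (Nat.bijective_iff_surjective_and_card _).2
      ⟨hs', le_antisymm h (Nat.card_le_card_of_surjective _ hs')⟩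
  exact congrArg Subtype.val
    (hb.1 (a₁ := ⟨u, hu⟩) (a₂ := 1) (Subtype.ext (by simpa using h1)))

include hc in
theorem ninth_rev (hτ : σ τ = eltT) :
    act (liftGen hs τ) (List.replicate 9 wordV.reverse).flatten =
      act (liftGen hs τ) (List.replicate 9 wordV).flatten := by
  set x := liftGen hs τ with hx
  have hcm : ∀ i j, sameBase [i, j] [j, i] = true → i < 10 → j < 10 →
      x i * x j = x j * x i := by
    intro i j h hi hj
    have e := eq_of_base h
    rw [act_pair, act_pair] at e
    exact InD.comm hs hc hτ (liftGen_inD hs τ j)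
      (by rw [map_liftGen hs τ hτ hi, map_liftGen hs τ hτ hj, e])
  have hcen : σ ((act x wordV) ^ 9) = 1 := by
    rw [← act_flatten, map_act hs τ hτ (by decide), eq_of_base small_words.2.2.2.2.2.1, act_nil]
  have hC := fun y => central_of_map hc hcen y
  rw [act_flatten, act_flatten]
  have eR : act x wordV = x 8 * x 5 * x 4 * x 3 * x 2 * x 1 * x 0 := by
    simp only [wordV, act_cons, act_nil, one_mul]
  have eM : act x wordV.reverse = x 0 * x 1 * x 2 * x 3 * x 4 * x 5 * x 8 := by
    simp only [wordV, List.reverse_cons, List.reverse_nil, List.nil_append, List.cons_append,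
      act_cons, act_nil, one_mul]
  rw [eR] at hC ⊢
  rw [eM]
  have sw : ∀ {i j : ℕ}, x i * x j = x j * x i → ∀ r, x i * (x j * r) = x j * (x i * r) :=
    fun h r => by rw [← mul_assoc, h, mul_assoc]
  have c20 := hcm 2 0 (by decide +kernel) (by norm_num) (by norm_num)
  have c30 := hcm 3 0 (by decide +kernel) (by norm_num) (by norm_num)
  have c40 := hcm 4 0 (by decide +kernel) (by norm_num) (by norm_num)
  have c50 := hcm 5 0 (by decide +kernel) (by norm_num) (by norm_num)
  have c80 := hcm 8 0 (by decide +kernel) (by norm_num) (by norm_num)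
  have c31 := hcm 3 1 (by decide +kernel) (by norm_num) (by norm_num)
  have c41 := hcm 4 1 (by decide +kernel) (by norm_num) (by norm_num)
  have c51 := hcm 5 1 (by decide +kernel) (by norm_num) (by norm_num)
  have c81 := hcm 8 1 (by decide +kernel) (by norm_num) (by norm_num)
  have c42 := hcm 4 2 (by decide +kernel) (by norm_num) (by norm_num)
  have c52 := hcm 5 2 (by decide +kernel) (by norm_num) (by norm_num)
  have c82 := hcm 8 2 (by decide +kernel) (by norm_num) (by norm_num)
  have c53 := hcm 5 3 (by decide +kernel) (by norm_num) (by norm_num)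
  have c84 := hcm 8 4 (by decide +kernel) (by norm_num) (by norm_num)
  have c85 := hcm 8 5 (by decide +kernel) (by norm_num) (by norm_num)
  have q1 : x 0 * (x 8 * x 5 * x 4 * x 3 * x 2 * x 1) =
      x 8 * x 5 * x 4 * x 3 * x 2 * (x 0 * x 1) := by
    simp only [mul_assoc, sw c80, sw c50, sw c40, sw c30, sw c20]
  have q2 : x 0 * x 1 * (x 8 * x 5 * x 4 * x 3 * x 2) =
      x 8 * x 5 * x 4 * x 3 * (x 0 * x 1 * x 2) := by
    simp only [mul_assoc, sw c80, sw c50, sw c40, sw c30, sw c81, sw c51, sw c41, sw c31]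
  have q3 : x 0 * x 1 * x 2 * (x 8 * x 5 * x 4 * x 3) =
      x 8 * x 5 * x 4 * (x 0 * x 1 * x 2 * x 3) := by
    simp only [mul_assoc, sw c80, sw c50, sw c40, sw c81, sw c51, sw c41, sw c82, sw c52, sw c42]
  have q4 : x 0 * x 1 * x 2 * x 3 * (x 8 * x 5 * x 4) =
      x 5 * (x 0 * x 1 * x 2 * x 3 * x 4 * x 8) := by
    simp only [mul_assoc, c84, sw c85, sw c50, sw c51, sw c52, sw c53]
  have q5 : x 0 * x 1 * x 2 * x 3 * x 4 * x 8 * x 5 =
      x 0 * x 1 * x 2 * x 3 * x 4 * x 5 * x 8 := by
    simp only [mul_assoc, c85]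
  have r1 := rot_pow hC
  rw [q1] at r1
  have r2 := rot_pow (M := E) (X := x 8 * x 5 * x 4 * x 3 * x 2) (Y := x 0 * x 1)
    (fun y => by rw [r1]; exact hC y)
  rw [q2, r1] at r2
  have r3 := rot_pow (M := E) (X := x 8 * x 5 * x 4 * x 3) (Y := x 0 * x 1 * x 2)
    (fun y => by rw [r2]; exact hC y)
  rw [q3, r2] at r3
  have r4 := rot_pow (M := E) (X := x 8 * x 5 * x 4) (Y := x 0 * x 1 * x 2 * x 3)
    (fun y => by rw [r3]; exact hC y)
  rw [q4, r3] at r4
  have r5 := rot_pow (M := E) (X := x 5) (Y := x 0 * x 1 * x 2 * x 3 * x 4 * x 8)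
    (fun y => by rw [r4]; exact hC y)
  rw [q5, r4] at r5
  exact r5

include hc in
/-- The lift of the transposition can be chosen so that the lifts satisfy the long relation. -/
theorem exists_lift : ∃ τ : E, σ τ = eltT ∧ τ * τ = 1 ∧
    act (liftGen hs τ) (List.replicate 9 wordV).flatten = 1 := by
  obtain ⟨τ, hτ⟩ := hs eltT
  set z := τ * τ with hzdef
  have hz : ∀ y, y * z = z * y := central_of_map hc (by rw [map_mul, hτ, t_sq])
  set W := (List.replicate 9 wordV).flatten with hW
  have hsame : act (liftGen hs τ) W.reverse = act (liftGen hs τ) W := by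
    rw [show W.reverse = (List.replicate 9 wordV.reverse).flatten by rw [hW]; decide +kernel]
    exact ninth_rev hs hc τ hτ
  have hv2 := act_mul_reverse (x := liftGen hs τ) hz (w := W)
    fun g _ => InD.sq hs hc hτ (liftGen_inD hs τ g)
  rw [hsame, show W.length = 63 by rw [hW]; decide] at hv2
  set v := act (liftGen hs τ) W with hv
  set e := v * (z ^ 31)⁻¹ with he
  have hσz : σ z = 1 := by rw [map_mul, hτ, t_sq]
  have hσe : σ e = 1 := by
    rw [he, map_mul, map_inv, map_pow, hσz, one_pow, inv_one, mul_one, hv,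
      map_act hs τ hτ (by rw [hW]; decide), hW, eq_of_base small_words.2.2.2.2.2.1, act_nil]
  have hec : ∀ y, y * e = e * y := central_of_map hc hσe
  have hzc : Commute v z := hz v
  have hee : e * e = z := by
    rw [he, mul_assoc, ← mul_assoc ((z ^ 31)⁻¹) v, ← (hzc.pow_right 31).inv_right.eq, mul_assoc,
      ← mul_assoc v v, hv2]
    group
  have hvz : v = e ^ 63 := by
    rw [show (63 : ℕ) = 2 * 31 + 1 from rfl, pow_succ, pow_mul, pow_two, hee, he, ← mul_assoc,
      ← (hzc.pow_right 31).eq, mul_inv_cancel_right]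
  refine ⟨τ * e⁻¹, by rw [map_mul, map_inv, hσe, inv_one, mul_one, hτ], ?_, ?_⟩
  · calc τ * e⁻¹ * (τ * e⁻¹) = τ * (e⁻¹ * τ) * e⁻¹ := by group
      _ = τ * (τ * e⁻¹) * e⁻¹ := by rw [(Commute.inv_right (show Commute τ e from hec τ)).eq]
      _ = τ * τ * (e * e)⁻¹ := by group
      _ = 1 := by rw [hee, ← hzdef, mul_inv_cancel]
  · have hk : ∀ y, y * e⁻¹ = e⁻¹ * y := fun y => (Commute.inv_right (show Commute y e from hec y)).eq
    rw [act_mul_central (x := liftGen hs τ) hk (w := (List.replicate 9 wordV).flatten) fun g _ => by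
      simp only [liftGen, mul_assoc]
      rw [← hk (Function.surjInv hs (conjBy g))⁻¹]]
    rw [← hW, ← hv, show W.length = 63 by rw [hW]; decide, inv_pow, ← hvz, mul_inv_cancel]

include hs hc in
/-- A stem extension is trivial. -/
theorem ker_eq_bot [Finite E] (hcomm : σ.ker ≤ commutator E) : σ.ker = ⊥ := by
  obtain ⟨τ, hτ, hτ2, hV⟩ := exists_lift hs hc
  set x := liftGen hs τ with hx
  have hxD : ∀ i, InD τ (x i) := liftGen_inD hs τ
  have hsq : ∀ g, g < 10 → x g * x g = 1 := fun g _ => (InD.sq hs hc hτ (hxD g)).trans hτ2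
  have hshort : ∀ w ∈ relShort, act x w = 1 := by
    intro w hw
    have h := List.all_eq_true.1 short_check w hw
    simp only [shortOk, Bool.and_eq_true, decide_eq_true_eq, Nat.blt_eq] at h
    obtain ⟨⟨⟨⟨hwe, ha⟩, hb⟩, hk⟩, hbase⟩ := h
    generalize w.getD 0 0 = i at *
    generalize w.getD 1 0 = j at *
    generalize w.length / 2 = k at *
    subst hwe
    have e := eq_of_base hbase
    rw [act_flatten, act_pair, act_nil] at e
    rw [act_flatten, act_pair]
    rcases hk with ⟨rfl, rfl⟩ | hk
    · rw [pow_one, hsq i ha]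
    · exact InD.rel hs hc hτ hτ2 (hxD j) (hxD i) hk
        (by rw [hx, map_liftGen hs τ hτ hb, map_liftGen hs τ hτ ha, e])
  have hU : ∀ g ∈ wordU10, g < 10 := by decide +kernel
  set u := act x wordU10 with hu
  have hσu : σ u = 1 := by
    rw [hu, hx, map_act hs τ hτ hU, eq_of_base small_words.2.2.2.2.2.2, act_nil]
  have hext : ∀ w ∈ extRels, act x w = 1 := by
    intro w hw
    simp only [extRels, List.mem_append, List.mem_map, List.mem_cons, List.not_mem_nil,
      or_false] at hw
    rcases hw with (hw | ⟨⟨r, k⟩, hp, rfl⟩) | hw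
    · exact hshort w hw
    · have h := List.all_eq_true.1 refl_check _ hp
      simp only [Bool.and_eq_true, decide_eq_true_eq, List.all_eq_true, Nat.blt_eq] at h
      obtain ⟨⟨hk, hr⟩, hbase⟩ := h
      have e := eq_of_base hbase
      have hbody : ∀ g ∈ reflBody r, g < 10 := by
        intro g hg
        simp only [reflBody, List.mem_append, List.mem_reverse, List.mem_singleton] at hg
        rcases hg with (hg | rfl) | hg
        exacts [hr g hg, by norm_num, hr g hg]
      have hin : InD τ (act x (reflBody r)) := by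
        rw [reflBody, act_append, act_append, act_reverse hsq hr, act_cons, act_nil, one_mul,
          ← mul_assoc]
        exact (hxD 1).conj _
      rw [reflWord, act_flatten, act_append, act_cons, act_nil, one_mul] at e ⊢
      exact InD.rel hs hc hτ hτ2 (hxD 9) hin hk
        (by rw [hx, map_liftGen hs τ hτ (by norm_num), map_act hs τ hτ hbody, e])
    · have hg : ∀ g, g < 10 → act x (uWord g) = 1 := by
        intro g hg
        rw [uWord, act_append, act_append, act_append, act_reverse hsq hU, ← hu, act_cons, act_nil,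
          one_mul, central_of_map hc hσu (x g)]
        simp [mul_assoc, hsq g hg]
      rcases hw with rfl | rfl
      exacts [hg 6 (by norm_num), hg 7 (by norm_num)]
  obtain ⟨hsm, he8s, he8g, he8n, -⟩ := small_words
  simp only [Bool.and_eq_true] at hsm
  obtain ⟨⟨⟨hr5, hr6⟩, hr7⟩, hr8⟩ := hsm
  obtain ⟨a1, a2, a3, a4⟩ := certD5_words
  obtain ⟨b1, b2, b3, b4⟩ := certE6_words
  obtain ⟨c1, c2, c3, c4⟩ := certE7_words
  have h0 : Finite (genGrp [] x) ∧ Nat.card (genGrp [] x) ≤ 1 := by
    have e : genGrp [] x = ⊥ := by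
      rw [genGrp, eq_bot_iff, Subgroup.closure_le]
      rintro y ⟨w, hw, -⟩
      exact absurd hw List.not_mem_nil
    rw [e]
    exact ⟨inferInstance, le_of_eq Subgroup.card_bot⟩
  have k5 := step_ext (b := 1920) hsq hshort certD5_closed a3 hr5 a2 h0 (by rw [a4])
  have k6 := step_ext (b := 51840) hsq hshort certE6_closed b3 hr6 b2 k5 (by rw [b4])
  have k7 := step_ext (b := 2903040) hsq hshort certE7_closed c3 hr7 c2 k6 (by rw [c4])
  have k8 := step_ext (b := 696729600) hsq hshort certE8_closed he8g hr8 he8s k7 (by rw [he8n])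
  obtain ⟨p1, p2, p3, p4⟩ := u6_words
  have hm6 := coset_mem (x := x) (word_fix certU6_valid (hyp_origin p3 hsq hext p1 p2)
    (by rw [p3]; decide +kernel) p4)
  rw [act_flatten, ← hu] at hm6
  obtain ⟨q1, q2, q3, q4⟩ := u8_words
  have hm8 := coset_mem (x := x) (word_fix certU8_valid (hyp_origin q3 hsq hext q1 q2)
    (by rw [q3]; exact hU) q4)
  rw [← hu] at hm8
  have hu3 : u ^ 3 = 1 := by
    refine eq_one_of_card (σ := σ) ?_ hm6 (by rw [map_pow, hσu, one_pow])
    rw [hx, map_genGrp hs τ hτ (by decide)]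
    exact k6.2.trans_eq image_card.1.symm
  have hu1 : u = 1 := by
    by_contra hne
    have hord : orderOf u = 3 := orderOf_eq_prime hu3 hne
    set G := genGrp w8 x with hG
    let φ : G →* Cfsg.Spor.Fi23 := σ.comp G.subtype
    have h1 : 3 ≤ Nat.card φ.ker := by
      let g : G := ⟨u, hm8⟩
      have hg : Subgroup.zpowers g ≤ φ.ker := Subgroup.zpowers_le.2 hσu
      have h2 := Subgroup.card_le_of_le hg
      rwa [Nat.card_zpowers, show orderOf g = orderOf u from (Subgroup.orderOf_coe g).symm, hord] at h2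
    have h2 : 348364800 ≤ Nat.card φ.range := by
      rw [show φ.range = G.map σ by rw [MonoidHom.range_comp, Subgroup.range_subtype], hG, hx,
        map_genGrp hs τ hτ (by decide)]
      exact image_e8
    have h3 : Nat.card G = Nat.card φ.range * Nat.card φ.ker := by
      rw [Subgroup.card_eq_card_quotient_mul_card_subgroup φ.ker,
        Nat.card_congr (QuotientGroup.quotientKerEquivRange φ).toEquiv]
    have h4 : Nat.card G ≤ 696729600 := k8.2
    have h5 := Nat.mul_le_mul h2 h1
    omega
  have hrel : ∀ w ∈ relData, act x w = 1 := by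
    intro w hw
    simp only [relData, List.mem_append, List.mem_cons, List.not_mem_nil, or_false] at hw
    rcases hw with hw | rfl | rfl
    exacts [hshort w hw, hu1, hV]
  have hfi : ∀ w ∈ fiData.rels, act x w = 1 := by
    intro w hw
    have h := rels_covered
    simp only [CoxData.covered, List.all_eq_true, Bool.and_eq_true, Bool.or_eq_true, Nat.blt_eq,
      List.contains_iff_mem] at h
    obtain ⟨hlt, hm | hm⟩ := h w hw
    · exact hrel w hm
    · have h2 := hrel _ hm
      rwa [act_reverse hsq hlt, inv_eq_one] at h2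
  let s : Cfsg.Spor.Fi23 →* E :=
    PresentedGroup.toGroup (f := fun g => x (genIx g)) fun r hr => by
      rw [← FreeGroup.mk_toWord (x := r), lift_word hsq]
      exact hfi _ (List.mem_map.2 ⟨r, (CoxData.relList_mem (P := fiData)).2 hr, rfl⟩)
  have hid : σ.comp s = MonoidHom.id _ := PresentedGroup.ext fun g => by
    rw [MonoidHom.comp_apply, MonoidHom.id_apply,
      show s (PresentedGroup.of g) = x (genIx g) from PresentedGroup.toGroup.of _, hx,
      map_liftGen hs τ hτ (fi_ok.ix_lt g)]
    exact CoxData.gen_ix (P := fiData) fi_ok g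
  have hid' : ∀ m, σ (s m) = m := DFunLike.congr_fun hid
  have hc2 : commutator E ≤ s.range := by
    rw [commutator_def, Subgroup.commutator_le]
    rintro a - b -
    refine ⟨⁅σ a, σ b⁆, ?_⟩
    obtain ⟨k, hk, ea⟩ := center_cancel hc (a := a) (b := s (σ a)) (hid' _).symm
    obtain ⟨l, hl, eb⟩ := center_cancel hc (a := b) (b := s (σ b)) (hid' _).symm
    have hk' : ∀ y, y * k = k * y := Subgroup.mem_center_iff.1 hk
    have hl' : ∀ y, y * l = l * y := Subgroup.mem_center_iff.1 hl
    rw [map_commutatorElement, commutatorElement_def, commutatorElement_def]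
    conv_rhs => rw [ea, eb]
    generalize s (σ a) = p
    generalize s (σ b) = q
    symm
    calc p * k * (q * l) * (p * k)⁻¹ * (q * l)⁻¹
        = p * (k * (q * l)) * (k⁻¹ * p⁻¹) * (l⁻¹ * q⁻¹) := by group
      _ = p * (q * l * k) * (k⁻¹ * p⁻¹) * (l⁻¹ * q⁻¹) := by rw [hk']
      _ = p * q * (l * p⁻¹) * (l⁻¹ * q⁻¹) := by group
      _ = p * q * (p⁻¹ * l) * (l⁻¹ * q⁻¹) := by rw [hl']
      _ = _ := by group
  refine eq_bot_iff.2 fun k hk => ?_
  obtain ⟨m, rfl⟩ := hc2 (hcomm hk)
  rw [MonoidHom.mem_ker, hid'] at hk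
  rw [hk, map_one]
  exact Subgroup.one_mem _

end Extension

/-- The multiplier is trivial. -/
theorem multiplier : Cfsg.HasCyclicSchurMultiplier Cfsg.Spor.Fi23 1 := by
  refine ⟨⟨Cfsg.Spor.Fi23, inferInstance, card_fi.1, MonoidHom.id _, ⟨Function.surjective_id, ?_, ?_⟩,
    ?_⟩, ?_⟩
  · rw [MonoidHom.ker_id]; exact bot_le
  · rw [MonoidHom.ker_id]; exact bot_le
  · rw [MonoidHom.ker_id]
    exact ⟨{ toFun := fun _ => 1, invFun := fun _ => 1, left_inv := fun _ => Subsingleton.elim _ _,
             right_inv := fun _ => Subsingleton.elim _ _, map_mul' := fun _ _ => Subsingleton.elim _ _ }⟩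
  · intro Γ _ _ σ h
    refine ⟨1, fun k => ⟨1, ?_⟩⟩
    have hk := k.2
    simp only [ker_eq_bot h.1 h.2.1 h.2.2, Subgroup.mem_bot] at hk
    exact Subtype.ext hk.symm

end CfsgLib.Fi23P
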