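import Cfsg.Agent.Lib.Fi23P.MultLift
import Cfsg.Agent.Lib.Fi23P.Closed
import Cfsg.Agent.Lib.Fi23P.DataE8
import Cfsg.Agent.Lib.Fi23P.DataU6
import Cfsg.Agent.Lib.Fi23P.CheckU8p0
import Cfsg.Agent.Lib.Fi23P.CheckU8p1
import Cfsg.Agent.Lib.Fi23P.CheckU8p2

/-!
Certificates for the multiplier: derivations and the small facts about words.
-/

set_option autoImplicit false
set_option maxRecDepth 100000

namespace CfsgLib.Fi23P

open CfsgLib.PresCert Cfsg.Spor

theorem certU6_block0 : block certU6 0 = true := by decide +kernel

theorem certU6_shape : shapeOk certU6 = true := by decide +kernel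

theorem certU6_valid : Valid certU6 where
  shape := certU6_shape
  slots b hb := by
    have h : certU6.N = 512 := rfl
    obtain rfl : b = 0 := by omega
    exact certU6_block0

theorem certU8_shape : shapeOk certU8 = true := by decide +kernel

theorem certU8_valid : Valid certU8 where
  shape := certU8_shape
  slots b hb := by
    have h : certU8.N = 13312 := rfl
    obtain rfl | rfl | rfl | rfl | rfl | rfl | rfl | rfl | rfl | rfl | rfl | rfl | rfl | rfl : b = 0 ∨ b = 1 ∨ b = 2 ∨ b = 3 ∨ b = 4 ∨ b = 5 ∨ b = 6 ∨ b = 7 ∨ b = 8 ∨ b = 9 ∨ b = 10 ∨ b = 11 ∨ b = 12 ∨ b = 13 := by omega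
    exacts [certU8_block0, certU8_block1, certU8_block2, certU8_block3, certU8_block4, certU8_block5, certU8_block6, certU8_block7, certU8_block8, certU8_block9, certU8_block10, certU8_block11, certU8_block12, certU8_block13]

/-- The letters of the subgroup of type E8. -/
def w8 : List (List ℕ) := [[1], [2], [3], [4], [5], [6], [7], [8]]

theorem certE8_block0 : block certE8 0 = true := by decide +kernel

theorem certE8_closedBlock0 : closedBlock certE8 w8 0 = true := by decide +kernel

theorem certE8_shape : shapeOk certE8 = true ∧
    w8.all (fun w => w.all fun g => Nat.blt g certE8.ng) = true := by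
  decide +kernel

theorem certE8_closed : Closed certE8 w8 where
  shape := certE8_shape.1
  slots b hb := by
    have h : certE8.N = 512 := rfl
    obtain rfl : b = 0 := by omega
    exact certE8_block0
  words := certE8_shape.2
  closed b hb := by
    have h : certE8.n = 240 := rfl
    obtain rfl : b = 0 := by omega
    exact certE8_closedBlock0

/-- The orbit of the first point under the subgroup of type E8. -/
def lev8 : Fast.Level := ⟨0, w8, orbPts, orbPar⟩

theorem lev8_ok : Fast.levelOk tab [] lev8 = true ∧ lev8.pts.length = 120 := by
  decide +kernel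

/-- The word of a reflection. -/
def reflBody (w : List ℕ) : List ℕ := w.reverse ++ [1] ++ w

/-- The relation between a reflection and the last generator. -/
def reflWord (p : List ℕ × ℕ) : List ℕ := (List.replicate p.2 (reflBody p.1 ++ [9])).flatten

/-- The tenth power of the product of the three arms. -/
def wordU10 : List ℕ := (List.replicate 10 wordU).flatten

/-- The relation saying that the tenth power is central. -/
def uWord (g : ℕ) : List ℕ := wordU10 ++ [g] ++ wordU10.reverse ++ [g]

/-- The relations that hold in every central extension. -/
def extRels : List (List ℕ) := relShort ++ reflData.map reflWord ++ [uWord 6, uWord 7]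

/-- The rotation named by an origin. -/
def originWord (o : ℕ × ℕ) : List ℕ :=
  let v := extRels.getD (o.1 / 2) []
  (if o.1 % 2 = 1 then v.reverse else v).rotate o.2

/-- The words of a derivation are rotations of the relations. -/
def originOk (D : Data) (L : List (ℕ × ℕ)) : Bool :=
  (List.range D.nrel).all fun r =>
    decide ((wordAt D r).1 ++ (if (wordAt D r).2.1 < D.ng then [(wordAt D r).2.1] else []) ++
      (wordAt D r).2.2 = originWord (L.getD r (0, 0)))

/-- The shape of a short relation. -/
noncomputable def shortOk (w : List ℕ) : Bool :=
  let x := w.getD 0 0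
  let y := w.getD 1 0
  let k := w.length / 2
  decide (w = (List.replicate k [x, y]).flatten) && Nat.blt x 10 && Nat.blt y 10 &&
    decide ((k = 1 ∧ x = y) ∨ k = 2 ∨ k = 3) && sameBase w []

theorem short_check : relShort.all shortOk = true := by decide +kernel

theorem refl_check : reflData.all (fun p => decide (p.2 = 2 ∨ p.2 = 3) &&
    p.1.all (fun g => Nat.blt g 10) && sameBase (reflWord p) []) = true := by
  decide +kernel

theorem u6_words : originOk certU6 certU6Origin = true ∧
    subsOk certU6 [[1], [2], [3], [4], [5], [8]] (16 * certU6.words.length) = true ∧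
    certU6.ng = 10 ∧ endsAt certU6 (certU6.rm - 1)
      (walk certU6 (certU6.rm - 1) 0 (List.replicate 3 wordU10).flatten) 0 = true := by
  decide +kernel

theorem u8_words : originOk certU8 certU8Origin = true ∧
    subsOk certU8 w8 (16 * certU8.words.length) = true ∧
    certU8.ng = 10 ∧ endsAt certU8 (certU8.rm - 1)
      (walk certU8 (certU8.rm - 1) 0 wordU10) 0 = true := by
  decide +kernel

theorem small_words : (relsOk certD5 relShort && relsOk certE6 relShort &&
    relsOk certE7 relShort && relsOk certE8 relShort) = true ∧
    subsOk certE8 [[1], [2], [3], [4], [5], [6], [8]] (16 * certE8.words.length) = true ∧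
    certE8.ng = 10 ∧ certE8.n = 240 ∧ extRels.all (fun w => w.all fun g => Nat.blt g 10) = true ∧
    sameBase (List.replicate 9 wordV).flatten [] = true ∧ sameBase wordU10 [] = true := by
  decide +kernel

end CfsgLib.Fi23P
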