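import Cfsg.Agent.Lib.Fi23P.ThreeT

/-!
Lifting transpositions to a central extension.
-/

set_option autoImplicit false
set_option maxRecDepth 100000

namespace CfsgLib.Fi23P

open CfsgLib.PresCert Cfsg.Spor

attribute [local irreducible] relShort levels wordA rootWords baseL CfsgLib.Fi22P.levels

/-- The centraliser of the transposition has no nontrivial homomorphism to a commutative group. -/
theorem subH_hom {A : Type*} [CommGroup A] (f : subH →* A) (x : subH) : f x = 1 := by
  have hz : Subgroup.zpowers tH ≤ f.ker := Subgroup.zpowers_le.2 (MonoidHom.mem_ker.2 (t_killed f))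
  let g : QH →* A := QuotientGroup.lift _ f hz
  have h := CfsgLib.Fi22P.hom_trivial (g.comp quotIso.symm.toMonoidHom) (fun z => mul_comm _ _)
    (quotIso (QuotientGroup.mk' _ x))
  simpa [g] using h

/-- Powers of words. -/
theorem act_flatten {M : Type*} [Group M] (gen : ℕ → M) (w : List ℕ) :
    ∀ k : ℕ, act gen (List.replicate k w).flatten = act gen w ^ k
  | 0 => by simp [act_nil]
  | k + 1 => by
    rw [List.replicate_succ, List.flatten_cons, act_append, act_flatten gen w k, pow_succ]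

/-- The word of a product of reflections. -/
theorem act_pair {M : Type*} [Group M] (gen : ℕ → M) (i j : ℕ) :
    act gen [i, j] = gen j * gen i := by
  rw [act_cons, act_cons, act_nil, one_mul]

/-- Two involutions with a product of order three are conjugate by it. -/
theorem braid_conj {G : Type*} [Group G] {g h : G} (hg : g * g = 1) (hh : h * h = 1)
    (h3 : (g * h) ^ 3 = 1) : h = (g * h) * g * (g * h)⁻¹ := by
  have eg : g⁻¹ = g := inv_eq_of_mul_eq_one_right hg
  have eh : h⁻¹ = h := inv_eq_of_mul_eq_one_right hh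
  have e : (g * h) * g * (g * h)⁻¹ * h = (g * h) ^ 3 := by
    rw [mul_inv_rev, eg, eh, pow_succ, pow_two]
    simp only [mul_assoc]
  rw [h3] at e
  rw [eq_inv_of_mul_eq_one_left e, eh]

/-- The generators of the diagram with their neighbours nearer to the first node. -/
theorem edge_words : ([(0, 1), (1, 2), (2, 3), (3, 4), (4, 5), (5, 6), (6, 7), (3, 8), (8, 9)] :
    List (ℕ × ℕ)).all
      (fun e => sameBase [e.2, e.1, e.2, e.1, e.2, e.1] []) = true := by
  decide +kernel

/-- Every generator is conjugate to the central involution of the subgroup. -/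
theorem gen_conj : ∀ i, i < 10 → ∃ c, fiGen i = c * eltT * c⁻¹ := by
  have h := edge_words
  simp only [List.all_cons, List.all_nil, Bool.and_true, Bool.and_eq_true] at h
  obtain ⟨h01, h12, h23, h34, h45, h56, h67, h38, h89⟩ := h
  have next' : ∀ a b, a < 10 → b < 10 → sameBase [b, a, b, a, b, a] [] = true →
      (∃ c, fiGen a = c * eltT * c⁻¹) → ∃ c, fiGen b = c * eltT * c⁻¹ := by
    rintro a b ha hb h ⟨c, hc⟩
    have e := eq_of_base h
    rw [show [b, a, b, a, b, a] = (List.replicate 3 [b, a]).flatten from rfl, act_flatten,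
      act_pair, act_nil] at e
    refine ⟨fiGen a * fiGen b * c, (braid_conj (fiGen_sq a ha) (fiGen_sq b hb) e).trans ?_⟩
    generalize fiGen a * fiGen b = p
    rw [hc]
    group
  have c0 : ∃ c, fiGen 0 = c * eltT * c⁻¹ := ⟨_, first_conj⟩
  have c1 := next' 0 1 (by norm_num) (by norm_num) h01 c0
  have c2 := next' 1 2 (by norm_num) (by norm_num) h12 c1
  have c3 := next' 2 3 (by norm_num) (by norm_num) h23 c2
  have c4 := next' 3 4 (by norm_num) (by norm_num) h34 c3
  have c5 := next' 4 5 (by norm_num) (by norm_num) h45 c4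
  have c6 := next' 5 6 (by norm_num) (by norm_num) h56 c5
  have c7 := next' 6 7 (by norm_num) (by norm_num) h67 c6
  have c8 := next' 3 8 (by norm_num) (by norm_num) h38 c3
  have c9 := next' 8 9 (by norm_num) (by norm_num) h89 c8
  intro i hi
  interval_cases i
  exacts [c0, c1, c2, c3, c4, c5, c6, c7, c8, c9]

variable {E : Type*} [Group E] {σ : E →* Cfsg.Spor.Fi23}

/-- A conjugate of the chosen lift. -/
def InD (τ p : E) : Prop := ∃ g, p = g * τ * g⁻¹

theorem InD.conj {τ p : E} (h : InD τ p) (c : E) : InD τ (c * p * c⁻¹) := by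
  obtain ⟨g, rfl⟩ := h
  exact ⟨c * g, by group⟩

theorem central_of_map (hc : σ.ker ≤ Subgroup.center E) {k : E} (hk : σ k = 1) (y : E) :
    y * k = k * y :=
  Subgroup.mem_center_iff.1 (hc hk) y

theorem center_cancel (hc : σ.ker ≤ Subgroup.center E) {a b : E} (h : σ a = σ b) :
    ∃ k ∈ Subgroup.center E, a = b * k :=
  ⟨b⁻¹ * a, hc (MonoidHom.mem_ker.2 (by rw [map_mul, map_inv, h, inv_mul_cancel])), by group⟩

variable (hs : Function.Surjective σ) (hc : σ.ker ≤ Subgroup.center E) {τ : E} (hτ : σ τ = eltT)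

include hs hc hτ

theorem comm_tau {q : E} (hq : σ q * eltT = eltT * σ q) : q * τ = τ * q := by
  let l : subH → E := fun m => Function.surjInv hs m.1
  have hl : ∀ m : subH, σ (l m) = m.1 := fun m => Function.surjInv_eq hs m.1
  have hz : ∀ m : subH, τ * l m * τ⁻¹ * (l m)⁻¹ ∈ Subgroup.center E := fun m =>
    hc (MonoidHom.mem_ker.2 (by
      rw [map_mul, map_mul, map_mul, map_inv, map_inv, hτ, hl, t_central m.2]
      group))
  let f : subH →* Subgroup.center E := MonoidHom.mk' (fun m => ⟨_, hz m⟩) fun m n => by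
    refine Subtype.ext ?_
    show τ * l (m * n) * τ⁻¹ * (l (m * n))⁻¹ = τ * l m * τ⁻¹ * (l m)⁻¹ * (τ * l n * τ⁻¹ * (l n)⁻¹)
    obtain ⟨k, hk, e⟩ := center_cancel hc (a := l (m * n)) (b := l m * l n)
      (by rw [map_mul, hl, hl, hl, Subgroup.coe_mul])
    have hk' : ∀ y, y * k = k * y := Subgroup.mem_center_iff.1 hk
    have hn : ∀ y, y * (τ * l n * τ⁻¹ * (l n)⁻¹) = (τ * l n * τ⁻¹ * (l n)⁻¹) * y :=
      Subgroup.mem_center_iff.1 (hz n)
    calc τ * l (m * n) * τ⁻¹ * (l (m * n))⁻¹
        = τ * l m * l n * (k * τ⁻¹) * k⁻¹ * (l m * l n)⁻¹ := by rw [e]; group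
      _ = τ * l m * l n * (τ⁻¹ * k) * k⁻¹ * (l m * l n)⁻¹ := by rw [hk']
      _ = τ * l m * τ⁻¹ * ((τ * l n * τ⁻¹ * (l n)⁻¹) * (l m)⁻¹) := by group
      _ = τ * l m * τ⁻¹ * ((l m)⁻¹ * (τ * l n * τ⁻¹ * (l n)⁻¹)) := by rw [hn]
      _ = _ := by group
  have hmem : σ q ∈ subH := by
    rw [← centralizer_t]
    exact Subgroup.mem_centralizer_singleton_iff.2 hq
  obtain ⟨k, hk, e⟩ := center_cancel hc (a := q) (b := l ⟨σ q, hmem⟩) (hl ⟨σ q, hmem⟩).symm
  letI : CommGroup (Subgroup.center E) :=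
    { (inferInstance : Group (Subgroup.center E)) with
      mul_comm := fun a b => Subtype.ext (Subgroup.mem_center_iff.1 b.2 a) }
  have h1 := congrArg Subtype.val (subH_hom (A := Subgroup.center E) f ⟨σ q, hmem⟩)
  change τ * l ⟨σ q, hmem⟩ * τ⁻¹ * (l ⟨σ q, hmem⟩)⁻¹ = 1 at h1
  have h2 : τ * l ⟨σ q, hmem⟩ = l ⟨σ q, hmem⟩ * τ := by
    rwa [mul_inv_eq_one, mul_inv_eq_iff_eq_mul] at h1
  rw [e, mul_assoc, (Subgroup.mem_center_iff.1 hk τ).symm, ← mul_assoc, ← h2, mul_assoc]

theorem InD.comm {p q : E} (hp : InD τ p) (h : σ q * σ p = σ p * σ q) : q * p = p * q := by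
  obtain ⟨g, rfl⟩ := hp
  have e := comm_tau hs hc hτ (q := g⁻¹ * q * g) (by
    simp only [map_mul, map_inv, hτ] at h ⊢
    calc (σ g)⁻¹ * σ q * σ g * eltT
        = (σ g)⁻¹ * (σ q * (σ g * eltT * (σ g)⁻¹)) * σ g := by group
      _ = (σ g)⁻¹ * (σ g * eltT * (σ g)⁻¹ * σ q) * σ g := by rw [h]
      _ = _ := by group)
  calc q * (g * τ * g⁻¹) = g * (g⁻¹ * q * g * τ) * g⁻¹ := by group
    _ = g * (τ * (g⁻¹ * q * g)) * g⁻¹ := by rw [e]
    _ = _ := by group

theorem InD.ext {p q : E} (hp : InD τ p) (hq : InD τ q) (h : σ p = σ q) : p = q := by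
  obtain ⟨g, rfl⟩ := hp
  obtain ⟨b, rfl⟩ := hq
  have e := comm_tau hs hc hτ (q := b⁻¹ * g) (by
    simp only [map_mul, map_inv, hτ] at h ⊢
    calc (σ b)⁻¹ * σ g * eltT = (σ b)⁻¹ * (σ g * eltT * (σ g)⁻¹) * σ g := by group
      _ = (σ b)⁻¹ * (σ b * eltT * (σ b)⁻¹) * σ g := by rw [h]
      _ = _ := by group)
  calc g * τ * g⁻¹ = b * (b⁻¹ * g * τ) * g⁻¹ := by group
    _ = b * (τ * (b⁻¹ * g)) * g⁻¹ := by rw [e]
    _ = _ := by group

theorem InD.sq {p : E} (hp : InD τ p) : p * p = τ * τ := by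
  obtain ⟨g, rfl⟩ := hp
  have h := central_of_map hc (k := τ * τ) (by rw [map_mul, hτ, t_sq]) g
  calc g * τ * g⁻¹ * (g * τ * g⁻¹) = g * (τ * τ) * g⁻¹ := by group
    _ = τ * τ * g * g⁻¹ := by rw [h]
    _ = _ := by group

theorem InD.sq_map {p : E} (hp : InD τ p) : σ p * σ p = 1 := by
  rw [← map_mul, InD.sq hs hc hτ hp, map_mul, hτ, t_sq]

/-- When the lift is an involution, products of conjugates keep their orders two and three. -/
theorem InD.rel (h2 : τ * τ = 1) {p q : E} (hp : InD τ p) (hq : InD τ q) {k : ℕ}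
    (hk : k = 2 ∨ k = 3) (h : (σ p * σ q) ^ k = 1) : (p * q) ^ k = 1 := by
  have sp : p * p = 1 := (InD.sq hs hc hτ hp).trans h2
  have sq' : q * q = 1 := (InD.sq hs hc hτ hq).trans h2
  have mp := InD.sq_map hs hc hτ hp
  have mq := InD.sq_map hs hc hτ hq
  rcases hk with rfl | rfl
  · rw [pow_two] at h
    have e : σ q * σ p = σ p * σ q := by
      have := inv_eq_of_mul_eq_one_right h
      rw [mul_inv_rev, inv_eq_of_mul_eq_one_right mp, inv_eq_of_mul_eq_one_right mq] at this
      exact this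
    rw [pow_two]
    calc p * q * (p * q) = p * (q * p) * q := by simp only [mul_assoc]
      _ = p * (p * q) * q := by rw [InD.comm hs hc hτ hp e]
      _ = p * p * (q * q) := by simp only [mul_assoc]
      _ = 1 := by rw [sp, sq', one_mul]
  · have e : (p * q) * p * (p * q)⁻¹ = q := InD.ext hs hc hτ (hp.conj _) hq (by
      simp only [map_mul, map_inv]
      exact (braid_conj mp mq h).symm)
    have e2 : p * q * p = q * p * q := by
      rw [mul_inv_eq_iff_eq_mul] at e
      rw [e, mul_assoc]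
    calc (p * q) ^ 3 = p * q * p * (q * p * q) := by rw [pow_succ, pow_two]; simp only [mul_assoc]
      _ = p * q * p * (p * q * p) := by rw [e2]
      _ = p * q * (p * p) * q * p := by simp only [mul_assoc]
      _ = p * (q * q) * p := by rw [sp, mul_one]; simp only [mul_assoc]
      _ = 1 := by rw [sq', mul_one, sp]

end CfsgLib.Fi23P
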