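import Cfsg.Agent.Lib.Fi23P.PermDefs

/-!
Kernel checks of levels and words.
-/

set_option autoImplicit false
set_option maxRecDepth 100000

namespace CfsgLib.Fi23P

open CfsgLib.PresCert Cfsg.Spor

/-- The central involution of the stabiliser. -/
def wordT : List ℕ := (List.replicate 9 ([1, 2, 3, 4, 5, 6, 8] : List ℕ)).flatten

/-- Two words agree on the base points. -/
noncomputable def sameBase (u v : List ℕ) : Bool :=
  baseL.all (fun b => Nat.beq (tab.walk b u) (tab.walk b v)) &&
    u.all (fun g => Nat.blt g 10) && v.all (fun g => Nat.blt g 10)

/-- The number in the larger group of a generator of the smaller one. -/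
def mapIx (g : ℕ) : ℕ := ([0, 1, 2, 3, 4, 5, 6, 8, 9] : List ℕ).getD g 0

theorem rels_covered : fiData.covered relData = true := by decide +kernel

theorem levels_count : 3510 * (levels.map fun l => l.pts.length).prod = 129123503308800 ∧
    baseL = [0, 52] ++ levels.map Fast.Level.base := by
  decide +kernel

theorem forest_shape : Fast.forestShape tab forest = true := by decide +kernel

theorem letters_fix : sHw.all (fun w => Nat.beq (tab.walk 0 w) 0 &&
    w.all fun g => Nat.blt g tab.ng) = true := by
  decide +kernel

theorem forest_zero : forest.roots.length = 3 ∧ forest.lab 0 = 0 ∧ forest.roots.getD 0 0 = 0 ∧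
    forest.lab 52 = 1 := by
  decide +kernel

/-- The sizes of the suborbits, counted on a block. -/
noncomputable def labCount (k b : ℕ) : ℕ :=
  ((List.range 1000).filter fun j => Nat.blt (1000 * b + j) 31671 &&
    Nat.beq (forest.lab (1000 * b + j)) k).length

theorem lab_count : (List.range 3).map (fun k => ((List.range 32).map (labCount k)).sum) =
    [1, 3510, 28160] := by
  decide +kernel

theorem t_words : sHw.all (fun w => sameBase (wordT ++ w) (w ++ wordT)) = true ∧
    sameBase (wordT ++ wordT) [] = true ∧ sameBase wordT [] = false ∧
    sameBase (wordA.reverse ++ wordT ++ wordA) [0] = true := by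
  decide +kernel

/-- The product of the central involution with a conjugate. -/
def prodWord (k : ℕ) : List ℕ :=
  (rootWords.getD k []).reverse ++ wordT ++ rootWords.getD k [] ++ wordT

theorem root_words : (List.range 3).all (fun k =>
      Nat.beq (tab.walk 0 (rootWords.getD k [])) (forest.roots.getD k 0) &&
      (rootWords.getD k []).all (fun g => Nat.blt g 10)) = true ∧
    sameBase (prodWord 1 ++ prodWord 1) [] = true ∧
    sameBase (prodWord 2 ++ prodWord 2 ++ prodWord 2) [] = true ∧
    (sameBase (prodWord 1) [] || sameBase (prodWord 2) []) = false := by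
  decide +kernel

end CfsgLib.Fi23P
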