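import Cfsg.Agent.Lib.Fi23P.Pres
import Cfsg.Agent.Lib.Fi23P.Closed
import Cfsg.Agent.Lib.Fi23P.DataG22
import Cfsg.Agent.Lib.Fi23P.DataG23
import Cfsg.Agent.Lib.Fi23P.DataO7

/-!
The upper bound on the order.
-/

set_option autoImplicit false
set_option maxRecDepth 100000

namespace CfsgLib.Fi23P

open CfsgLib.PresCert Cfsg.Spor

/-- The words of the generators of the subgroup of index 31671. -/
def sH : List (List ℕ) := [[0], [1], [2], [3], [4], [5], [6], [8], [9]]

/-- A coset is fixed by the subgroup's words. -/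
theorem fix_coset {S : List (List ℕ)} {w : List ℕ} (h : w ∈ S) :
    act fiGen w • ((1 : Cfsg.Spor.Fi23) : Cfsg.Spor.Fi23 ⧸ genGrp S fiGen) =
      ((1 : Cfsg.Spor.Fi23) : Cfsg.Spor.Fi23 ⧸ genGrp S fiGen) := by
  rw [MulAction.Quotient.smul_coe, smul_eq_mul, mul_one, QuotientGroup.eq, mul_one]
  exact inv_mem (Subgroup.subset_closure ⟨w, h, rfl⟩)

/-- One step of the chain. -/
theorem step {D : Data} {S W : List (List ℕ)} {a b : ℕ}
    (hD : Closed D W) (hng : D.ng = 10)
    (hr : relsOk D fiData.rels = true) (hs : subsOk D S (16 * D.words.length) = true)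
    (hS : Finite (genGrp S fiGen) ∧ Nat.card (genGrp S fiGen) ≤ a) (hab : D.n * a ≤ b) :
    Finite (genGrp W fiGen) ∧ Nat.card (genGrp W fiGen) ≤ b := by
  haveI := hS.1
  have H : Hyp D fiGen ((1 : Cfsg.Spor.Fi23) : Cfsg.Spor.Fi23 ⧸ genGrp S fiGen) :=
    hyp_of_checks (fun g hg => fiGen_sq g (hng ▸ hg)) (CoxData.rels_act fi_ok)
      (fun w hw => fix_coset hw) hr hs
  obtain ⟨h1, h2⟩ := card_le hD H
  exact ⟨h1, h2.trans ((Nat.mul_le_mul_left _ hS.2).trans hab)⟩

theorem triv_le : Finite (genGrp [] fiGen) ∧ Nat.card (genGrp [] fiGen) ≤ 1 := by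
  have e : genGrp [] fiGen = ⊥ := by
    rw [genGrp, eq_bot_iff, Subgroup.closure_le]
    rintro x ⟨w, hw, -⟩
    exact absurd hw List.not_mem_nil
  rw [e]
  exact ⟨inferInstance, le_of_eq Subgroup.card_bot⟩

theorem certD5_words : relsOk certD5 fiData.rels = true ∧
    subsOk certD5 [] (16 * certD5.words.length) = true ∧ certD5.ng = 10 ∧ certD5.n = 1920 := by
  decide +kernel

theorem certE6_words : relsOk certE6 fiData.rels = true ∧
    subsOk certE6 [[2], [3], [4], [5], [8]] (16 * certE6.words.length) = true ∧ certE6.ng = 10 ∧ certE6.n = 27 := by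
  decide +kernel

theorem certE7_words : relsOk certE7 fiData.rels = true ∧
    subsOk certE7 [[1], [2], [3], [4], [5], [8]] (16 * certE7.words.length) = true ∧ certE7.ng = 10 ∧ certE7.n = 56 := by
  decide +kernel

theorem certO7_words : relsOk certO7 fiData.rels = true ∧
    subsOk certO7 [[1], [2], [3], [4], [5], [6], [8]] (16 * certO7.words.length) = true ∧ certO7.ng = 10 ∧ certO7.n = 3159 := by
  decide +kernel

theorem certG22_words : relsOk certG22 fiData.rels = true ∧
    subsOk certG22 [[1], [2], [3], [4], [5], [6], [8], [9]] (16 * certG22.words.length) = true ∧ certG22.ng = 10 ∧ certG22.n = 14080 := by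
  decide +kernel

theorem certG23_words : relsOk certG23 fiData.rels = true ∧
    subsOk certG23 sH (16 * certG23.words.length) = true ∧ certG23.ng = 10 ∧ certG23.n = 31671 := by
  decide +kernel

theorem sub_le : Finite (genGrp sH fiGen) ∧ Nat.card (genGrp sH fiGen) ≤ 129123503308800 := by
  obtain ⟨a1, a2, a3, a4⟩ := certD5_words
  obtain ⟨b1, b2, b3, b4⟩ := certE6_words
  obtain ⟨c1, c2, c3, c4⟩ := certE7_words
  obtain ⟨d1, d2, d3, d4⟩ := certO7_words
  obtain ⟨e1, e2, e3, e4⟩ := certG22_words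
  have hA := step (b := 1920) certD5_closed a3 a1 a2 triv_le (by rw [a4])
  have hB := step (b := 51840) certE6_closed b3 b1 b2 hA (by rw [b4])
  have hC := step (b := 2903040) certE7_closed c3 c1 c2 hB (by rw [c4])
  have hD := step (b := 9170703360) certO7_closed d3 d1 d2 hC (by rw [d4])
  exact step (b := 129123503308800) certG22_closed e3 e1 e2 hD (by rw [e4])

theorem fi_le : Finite Cfsg.Spor.Fi23 ∧ Nat.card Cfsg.Spor.Fi23 ≤ 4089470473293004800 := by
  obtain ⟨a1, a2, a3, a4⟩ := certG23_words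
  obtain ⟨h1, h2⟩ := step (b := 4089470473293004800) certG23_closed a3 a1 a2 sub_le (by rw [a4])
  have h := closure_all
  rw [show ((List.range 10).map fun g => [g]) =
    [[0], [1], [2], [3], [4], [5], [6], [7], [8], [9]] from rfl] at h
  rw [h] at h1 h2
  rw [Subgroup.card_top] at h2
  exact ⟨Finite.of_equiv _ Subgroup.topEquiv.toEquiv, h2⟩

theorem index_sub_le : (genGrp sH fiGen).index ≤ 31671 := by
  obtain ⟨a1, a2, a3, a4⟩ := certG23_words
  have H : Hyp certG23 fiGen ((1 : Cfsg.Spor.Fi23) : Cfsg.Spor.Fi23 ⧸ genGrp sH fiGen) :=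
    hyp_of_checks (fun g hg => fiGen_sq g (a3 ▸ hg)) (CoxData.rels_act fi_ok)
      (fun w hw => fix_coset hw) a1 a2
  exact (index_le closure_all certG23_closed H).2.trans_eq a4

end CfsgLib.Fi23P
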