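import Cfsg.Agent.Lib.Fi23P.OutData

/-!
Kernel checks of the searches, part 0.
-/

set_option autoImplicit false
set_option maxRecDepth 100000

namespace CfsgLib.Fi23P

open CfsgLib.PresCert

theorem node0_ok : node0.ok = true := by decide +kernel

theorem node0_cands : node0.cands = true := by decide +kernel

theorem node3_ok : node3.ok = true := by decide +kernel

theorem node3_cands : node3.cands = true := by decide +kernel

theorem node6_ok : node6.ok = true := by decide +kernel

theorem node6_cands : node6.cands = true := by decide +kernel

theorem node9_ok : node9.ok = true := by decide +kernel

theorem node9_cands : node9.cands = true := by decide +kernel

theorem node12_ok : node12.ok = true := by decide +kernel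

theorem node12_cands : node12.cands = true := by decide +kernel

theorem node15_ok : node15.ok = true := by decide +kernel

theorem node15_cands : node15.cands = true := by decide +kernel

theorem node18_ok : node18.ok = true := by decide +kernel

theorem node18_cands : node18.cands = true := by decide +kernel

end CfsgLib.Fi23P
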