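import Cfsg.Agent.Lib.Fi23P.OutData

/-!
Kernel checks of the searches, part 1.
-/

set_option autoImplicit false
set_option maxRecDepth 100000

namespace CfsgLib.Fi23P

open CfsgLib.PresCert

theorem node1_ok : node1.ok = true := by decide +kernel

theorem node1_cands : node1.cands = true := by decide +kernel

theorem node4_ok : node4.ok = true := by decide +kernel

theorem node4_cands : node4.cands = true := by decide +kernel

theorem node7_ok : node7.ok = true := by decide +kernel

theorem node7_cands : node7.cands = true := by decide +kernel

theorem node10_ok : node10.ok = true := by decide +kernel

theorem node10_cands : node10.cands = true := by decide +kernel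

theorem node13_ok : node13.ok = true := by decide +kernel

theorem node13_cands : node13.cands = true := by decide +kernel

theorem node16_ok : node16.ok = true := by decide +kernel

theorem node16_cands : node16.cands = true := by decide +kernel

theorem node19_ok : node19.ok = true := by decide +kernel

/-- The candidates for a third commuting transposition lie in its orbit, on a block. -/
noncomputable def triBlock (b : ℕ) : Bool :=
  (List.range 1000).all fun j =>
    let r := 1000 * b + j
    !(Nat.blt r 31671) || !(Nat.beq (forest.lab r) 1) || Nat.beq r 52 ||
      !(Nat.beq (tab.walk r (triNode.fixed.getD 1 (0, [])).2) r) ||
      triNode.orbits.any fun o => o.2.2.testBit r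

theorem tri_cands : (List.range 32).all triBlock = true := by decide +kernel

end CfsgLib.Fi23P
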