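import Cfsg.Agent.Lib.Fi23P.OutData

/-!
Kernel checks of the searches, part 2.
-/

set_option autoImplicit false
set_option maxRecDepth 100000

namespace CfsgLib.Fi23P

open CfsgLib.PresCert

theorem node2_ok : node2.ok = true := by decide +kernel

theorem node2_cands : node2.cands = true := by decide +kernel

theorem node5_ok : node5.ok = true := by decide +kernel

theorem node5_cands : node5.cands = true := by decide +kernel

theorem node8_ok : node8.ok = true := by decide +kernel

theorem node8_cands : node8.cands = true := by decide +kernel

theorem node11_ok : node11.ok = true := by decide +kernel

theorem node11_cands : node11.cands = true := by decide +kernel

theorem node14_ok : node14.ok = true := by decide +kernel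

theorem node14_cands : node14.cands = true := by decide +kernel

theorem node17_ok : node17.ok = true := by decide +kernel

theorem node17_cands : node17.cands = true := by decide +kernel

end CfsgLib.Fi23P
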