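import Cfsg.Agent.Lib.Fi23P.OutRigid

/-!
Involutions with a centraliser of index 31671 are transpositions.
-/

set_option autoImplicit false
set_option maxRecDepth 100000

namespace CfsgLib.Fi23P

open CfsgLib.PresCert Cfsg.Spor

attribute [local irreducible] relShort levels wordA rootWords baseL cliqueSums cliqueLevel

/-- The number of points fixed by a word, on a block. -/
noncomputable def fixBlock (w : List ℕ) (b : ℕ) : ℕ :=
  ((List.range 1000).filter fun j => Nat.blt (1000 * b + j) 31671 &&
    Nat.beq (tab.walk (1000 * b + j) w) (1000 * b + j)).length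

theorem fix_counts : ((List.range 32).map (fixBlock [2, 0])).sum = 695 ∧
    ((List.range 32).map (fixBlock [4, 2, 0])).sum = 183 := by
  decide +kernel

theorem fix_card {w : List ℕ} (hw : ∀ g ∈ w, g < 10) :
    Nat.card {i : Fin tab.n // phi (act fiGen w) i = i} =
      ((List.range 32).map (fixBlock w)).sum := by
  classical
  have h1 : Nat.card {i : Fin tab.n // phi (act fiGen w) i = i} =
      ((List.range (1000 * 32)).filter fun q => Nat.blt q 31671 &&
        Nat.beq (tab.walk q w) q).length := by
    rw [← List.toFinset_card_of_nodup (List.nodup_range.filter _), ← Set.ncard_coe_finset,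
      ← Nat.card_coe_set_eq]
    have key : ∀ i : Fin tab.n, phi (act fiGen w) i = i ↔ i.val ∈
        (((List.range (1000 * 32)).filter fun q => Nat.blt q 31671 &&
          Nat.beq (tab.walk q w) q).toFinset : Set ℕ) := by
      intro i
      have hi : i.val < 31671 := i.isLt
      simp only [Finset.mem_coe, List.mem_toFinset, List.mem_filter, List.mem_range,
        Bool.and_eq_true, Nat.blt_eq, Nat.beq_eq, Fin.ext_iff, realised.act_apply hw]
      exact ⟨fun e => ⟨by omega, hi, e⟩, fun e => e.2.2⟩
    refine Nat.card_congr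
      { toFun := fun i => ⟨i.1.val, (key i.1).1 i.2⟩
        invFun := fun v => ⟨⟨v.1, ?_⟩, ?_⟩
        left_inv := fun i => rfl
        right_inv := fun v => rfl }
    · have := v.2
      simp only [Finset.mem_coe, List.mem_toFinset, List.mem_filter, Bool.and_eq_true,
        Nat.blt_eq] at this
      exact this.2.1
    · exact (key _).2 v.2
  rw [h1, filter_sum]
  exact congrArg List.sum (List.map_congr_left fun b _ => rfl)

theorem fix_card_conj (h z : Cfsg.Spor.Fi23) :
    Nat.card {i : Fin tab.n // phi (h * z * h⁻¹) i = i} =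
      Nat.card {i : Fin tab.n // phi z i = i} := by
  refine (Nat.card_congr (Equiv.subtypeEquiv (phi h) fun i => ?_)).symm
  rw [map_mul, map_mul, Equiv.Perm.mul_apply, Equiv.Perm.mul_apply, map_inv, Equiv.Perm.inv_def,
    Equiv.symm_apply_apply, EmbeddingLike.apply_eq_iff_eq]

theorem index_conj (h z : Cfsg.Spor.Fi23) :
    (Subgroup.centralizer ({h * z * h⁻¹} : Set Cfsg.Spor.Fi23)).index =
      (Subgroup.centralizer ({z} : Set Cfsg.Spor.Fi23)).index := by
  haveI := card_fi.1
  rw [← card_conjugates, ← card_conjugates]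
  refine congrArg (fun s : Set Cfsg.Spor.Fi23 => Nat.card s) (Set.ext fun y => ?_)
  exact ⟨fun e => IsConj.trans (isConj_iff.2 ⟨h, rfl⟩) e,
    fun e => IsConj.trans (IsConj.symm (isConj_iff.2 ⟨h, rfl⟩)) e⟩

theorem card_inf {G : Type*} [Group G] (H K : Subgroup G) :
    Nat.card (H.subgroupOf K) = Nat.card (H ⊓ K : Subgroup G) := by
  rw [← Subgroup.inf_subgroupOf_right]
  exact Nat.card_congr (Subgroup.subgroupOfEquivOfLe inf_le_right).toEquiv

/-- An involution fixing the first point with a centraliser of index 31671 has at most as many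
conjugates under the point stabiliser as fixed points. -/
theorem orbit_bound {z : Cfsg.Spor.Fi23}
    (hz : (Subgroup.centralizer ({z} : Set Cfsg.Spor.Fi23)).index = 31671)
    (h0 : phi z origin = origin) {O : Type*} (f : O → Cfsg.Spor.Fi23) (hf : Function.Injective f)
    (hmem : ∀ o, ∃ h ∈ subH, h * z * h⁻¹ = f o) :
    Nat.card O ≤ Nat.card {i : Fin tab.n // phi z i = i} := by
  haveI := card_fi.1
  set C := Subgroup.centralizer ({z} : Set Cfsg.Spor.Fi23) with hC
  have e1 := C.card_mul_index
  have e2 := subH.card_mul_index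
  rw [hz] at e1
  rw [subH_spec.1, ← e1] at e2
  have ecard : Nat.card subH = Nat.card C := Nat.eq_of_mul_eq_mul_right (by norm_num) e2
  have e3 := (C.subgroupOf subH).card_mul_index
  have e4 := (subH.subgroupOf C).card_mul_index
  rw [card_inf] at e3 e4
  rw [inf_comm, ← ecard, ← e3] at e4
  have eidx : (subH.subgroupOf C).index = (C.subgroupOf subH).index :=
    Nat.eq_of_mul_eq_mul_left Nat.card_pos e4
  choose h hh he using hmem
  let g : O → subH ⧸ C.subgroupOf subH := fun o => QuotientGroup.mk ⟨h o, hh o⟩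
  have hg : Function.Injective g := by
    intro a b e
    have e' := QuotientGroup.eq.1 e
    rw [Subgroup.mem_subgroupOf, Subgroup.coe_mul, Subgroup.coe_inv, hC,
      Subgroup.mem_centralizer_singleton_iff] at e'
    refine hf ?_
    rw [← he a, ← he b]
    calc h a * z * (h a)⁻¹ = h a * (z * ((h a)⁻¹ * h b)) * (h b)⁻¹ := by group
      _ = h a * (((h a)⁻¹ * h b) * z) * (h b)⁻¹ := by rw [e']
      _ = _ := by group
  have hfix : ∀ m : C, phi z (phi m.1 origin) = phi m.1 origin := by
    intro m
    rw [← Equiv.Perm.mul_apply, ← map_mul, ← Subgroup.mem_centralizer_singleton_iff.1 m.2,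
      map_mul, Equiv.Perm.mul_apply, h0]
  let u : C ⧸ subH.subgroupOf C → {i : Fin tab.n // phi z i = i} :=
    fun x => ⟨phi x.out.1 origin, hfix x.out⟩
  have hu : Function.Injective u := by
    intro a b e
    have e' : phi a.out.1 origin = phi b.out.1 origin := congrArg Subtype.val e
    rw [← QuotientGroup.out_eq' a, ← QuotientGroup.out_eq' b, QuotientGroup.eq,
      Subgroup.mem_subgroupOf, Subgroup.coe_mul, Subgroup.coe_inv, mem_subH_iff, map_mul,
      Equiv.Perm.mul_apply, map_inv, Equiv.Perm.inv_def, Equiv.symm_apply_eq]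
    exact e'.symm
  calc Nat.card O ≤ Nat.card (subH ⧸ C.subgroupOf subH) := Nat.card_le_card_of_injective g hg
    _ = Nat.card (C ⧸ subH.subgroupOf C) := by
        rw [← Subgroup.index_eq_card, ← Subgroup.index_eq_card, eidx]
    _ ≤ _ := Nat.card_le_card_of_injective u hu

/-- The second point. -/
def ptB : Fin tab.n := ⟨52, by rw [tab_n]; norm_num⟩

/-- The third point. -/
def ptC : Fin tab.n := ⟨106, by rw [tab_n]; norm_num⟩

theorem tri_starts : triNode.pts = [0, 52] ∧ triNode.pattern = [true, true] ∧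
    triNode.orbits.map (fun o => o.1) = [106] ∧ forest.lab 52 = 1 ∧
    Nat.beq (tab.walk 52 wordT) 52 = true := by
  decide +kernel

/-- Commuting transpositions are conjugate as pairs. -/
theorem pair_std {a b : Fin tab.n} (hne : a ≠ b) (hcom : phi (refl a) b = b) :
    ∃ h, phi h a = origin ∧ phi h b = ptB := by
  set h1 := (toPoint a)⁻¹ with h1def
  have ha : phi h1 a = origin := by
    rw [h1def, map_inv, Equiv.Perm.inv_def, Equiv.symm_apply_eq, phi_toPoint]
  set r := phi h1 b with hr
  have hne' : r ≠ origin := fun e => hne ((phi h1).injective (ha.trans e.symm))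
  have hfix : phi eltT r = r := by
    have e : refl origin = h1 * refl a * h1⁻¹ := by rw [refl_conj, ha]
    have e' : ∀ p, phi h1⁻¹ (phi h1 p) = p := fun p => by
      rw [← Equiv.Perm.mul_apply, ← map_mul, inv_mul_cancel, map_one, Equiv.Perm.one_apply]
    rw [← refl_origin, e, map_mul, map_mul, Equiv.Perm.mul_apply, Equiv.Perm.mul_apply, hr, e',
      hcom]
  have hlab := (lab_fix_t r hne').1 hfix
  obtain ⟨x, hx, hxr⟩ := forest_ok.reach realised r
  obtain ⟨y, hy, hyr⟩ := forest_ok.reach realised ptB
  simp only [hlab] at hxr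
  simp only [show forest.lab ptB.val = 1 from tri_starts.2.2.2.1] at hyr
  refine ⟨y * x⁻¹ * h1, ?_, ?_⟩
  · rw [map_mul, Equiv.Perm.mul_apply, ha]
    exact mem_subH_iff.1 (Subgroup.mul_mem _ hy (Subgroup.inv_mem _ hx))
  · rw [map_mul, Equiv.Perm.mul_apply, ← hr, map_mul, Equiv.Perm.mul_apply, map_inv,
      Equiv.Perm.inv_def, (Equiv.symm_apply_eq _).2 hxr.symm, hyr]

/-- The candidates for a third commuting transposition lie in one orbit. -/
theorem tri_solve (r : Fin tab.n) (hlab : forest.lab r.val = 1) (hne : r ≠ ptB)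
    (hfix : tab.walk r.val (triNode.fixed.getD 1 (0, [])).2 = r.val) :
    ∃ o ∈ triNode.orbits, ∃ m ∈ Fast.fixSub phi (triNode.fixed.map fun e => e.1),
      (phi m r).val = o.1 := by
  have hc := tri_cands
  simp only [triBlock, List.all_eq_true, List.mem_range, Bool.or_eq_true,
    Bool.not_eq_true', List.any_eq_true] at hc
  have hr : r.val < 31671 := r.isLt
  have h' := hc (r.val / 1000) (by omega) (r.val % 1000) (Nat.mod_lt _ (by norm_num))
  rw [Nat.div_add_mod] at h'
  rcases h' with (((e | e) | e) | e) | ⟨o, ho, hbit⟩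
  · rw [show Nat.blt r.val 31671 = true by rw [Nat.blt_eq]; exact hr] at e
    exact Bool.noConfusion e
  · rw [show Nat.beq (forest.lab r.val) 1 = true by rw [Nat.beq_eq]; exact hlab] at e
    exact Bool.noConfusion e
  · exact absurd (Fin.ext (Nat.eq_of_beq_eq_true e) : r = ptB) hne
  · rw [show Nat.beq _ r.val = true from Nat.beq_eq ▸ hfix] at e
    exact Bool.noConfusion e
  · have hok : triNode.ok = true := node19_ok
    have hg := Node.fix_spec hok
    simp only [Node.ok, Bool.and_eq_true, List.all_eq_true, Nat.blt_eq, Nat.beq_eq] at hok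
    obtain ⟨ho1, ho2⟩ := hok.2 o ho
    rw [← ho2] at hbit
    obtain ⟨m, hm, e⟩ := reach_spec ⟨o.1, ho1⟩ hg (bits := 2 ^ o.1)
      (fun k hk => by
        simp only [Nat.testBit_two_pow, decide_eq_true_eq] at hk
        exact ⟨1, Subgroup.one_mem _, by rw [map_one]; exact hk⟩) _ hbit
    refine ⟨o, ho, m⁻¹, Subgroup.inv_mem _ hm, ?_⟩
    rw [show r = phi m ⟨o.1, ho1⟩ from Fin.ext e.symm, map_inv, Equiv.Perm.inv_def,
      Equiv.symm_apply_apply]

/-- Three pairwise commuting transpositions are conjugate as triples. -/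
theorem triple_std {a b c : Fin tab.n} (hab : a ≠ b) (hac : a ≠ c) (hbc : b ≠ c)
    (h1 : phi (refl a) b = b) (h2 : phi (refl a) c = c) (h3 : phi (refl b) c = c) :
    ∃ h, phi h a = origin ∧ phi h b = ptB ∧ phi h c = ptC := by
  obtain ⟨h, ha, hb⟩ := pair_std hab h1
  set r := phi h c with hr
  obtain ⟨hpts, hpat, hst, -⟩ := tri_starts
  have hfix : ∀ (p : Fin tab.n) (s : Fin tab.n), phi h s = p → phi (refl s) c = c →
      phi (refl p) r = r := by
    intro p s hs hsc
    rw [← hs, ← refl_conj, map_mul, map_mul, Equiv.Perm.mul_apply, Equiv.Perm.mul_apply, hr,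
      map_inv, Equiv.Perm.inv_def, Equiv.symm_apply_apply, hsc]
  have hne0 : r ≠ origin := fun e => hac ((phi h).injective (ha.trans e.symm))
  have hlab : forest.lab r.val = 1 :=
    (lab_fix_t r hne0).1 (refl_origin ▸ hfix origin a ha h2)
  have hj : 1 < triNode.fixed.length := by
    have := congrArg List.length hpts
    simp [Node.pts] at this
    omega
  obtain ⟨hq, hw, hl⟩ := known_word (List.all_eq_true.1 tri_known _ (List.getElem_mem hj))
  have hpt : (⟨(triNode.fixed[1]).1, hq⟩ : Fin tab.n) = ptB := by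
    refine Fin.ext ?_
    have := List.getElem_of_eq hpts (i := 1) (by simpa [Node.pts] using hj)
    simpa [Node.pts, ptB] using this
  obtain ⟨o, ho, m, hm, hmr⟩ := tri_solve r hlab
    (fun e => hbc ((phi h).injective (hb.trans e.symm)))
    (by
      rw [List.getD_eq_getElem _ _ hj, ← realised.act_apply hl r, hw, hpt, hfix ptB b hb h3])
  have ho1 : o.1 = 106 := by
    have := List.mem_map_of_mem (f := fun o => o.1) ho
    rw [hst] at this
    simpa using this
  rw [show triNode.fixed.map (fun e => e.1) = [0, 52] from hpts] at hm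
  refine ⟨m * h, ?_, ?_, ?_⟩ <;> rw [map_mul, Equiv.Perm.mul_apply]
  · rw [ha]; exact hm origin (by simp [origin])
  · rw [hb]; exact hm ptB (by simp [ptB])
  · rw [← hr]; exact Fin.ext (hmr.trans ho1)

theorem gp_facts : (gp 2 ≠ gp 0 ∧ gp 4 ≠ gp 0 ∧ gp 4 ≠ gp 2) ∧
    outCom 2 0 = true ∧ outCom 4 0 = true ∧ outCom 4 2 = true := by
  refine ⟨⟨?_, ?_, ?_⟩, ?_⟩ <;> decide +kernel

theorem triple_moves : Nat.beq (tab.walk (tab.walk (tab.walk (genPts.getD 1 0) [0]) [2]) [4])
    (genPts.getD 1 0) = false := by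
  decide +kernel

theorem triple_ne_one {a b c : Fin tab.n} (hab : a ≠ b) (hac : a ≠ c) (hbc : b ≠ c)
    (h1 : phi (refl a) b = b) (h2 : phi (refl a) c = c) (h3 : phi (refl b) c = c) :
    refl a * refl b * refl c ≠ 1 := by
  intro h
  obtain ⟨u, hua, hub, huc⟩ := triple_std hab hac hbc h1 h2 h3
  obtain ⟨⟨g20, g40, g42⟩, o20, o40, o42⟩ := gp_facts
  obtain ⟨v, hva, hvb, hvc⟩ := triple_std g42 g40 g20
    ((gp_pattern (by norm_num) (by norm_num)).2 o42)
    ((gp_pattern (by norm_num) (by norm_num)).2 o40)
    ((gp_pattern (by norm_num) (by norm_num)).2 o20)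
  have e1 : refl origin * refl ptB * refl ptC = 1 := by
    rw [← hua, ← hub, ← huc, ← refl_conj, ← refl_conj, ← refl_conj]
    calc u * refl a * u⁻¹ * (u * refl b * u⁻¹) * (u * refl c * u⁻¹)
        = u * (refl a * refl b * refl c) * u⁻¹ := by group
      _ = 1 := by rw [h]; group
  have e2 : fiGen 4 * fiGen 2 * fiGen 0 = 1 := by
    rw [gen_refl 4 (by norm_num), gen_refl 2 (by norm_num), gen_refl 0 (by norm_num)]
    rw [← hva, ← hvb, ← hvc, ← refl_conj, ← refl_conj, ← refl_conj] at e1
    calc refl (gp 4) * refl (gp 2) * refl (gp 0)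
        = v⁻¹ * (v * refl (gp 4) * v⁻¹ * (v * refl (gp 2) * v⁻¹) * (v * refl (gp 0) * v⁻¹)) * v := by
          group
      _ = 1 := by rw [e1]; group
  have hm := triple_moves
  have hval := congrArg (fun z => ((phi z (gp 1) : Fin tab.n) : ℕ)) e2
  simp only [map_mul, map_one, Equiv.Perm.mul_apply, Equiv.Perm.one_apply,
    realised.app _ (show (4 : ℕ) < tab.ng by decide), realised.app _ (show (2 : ℕ) < tab.ng by decide),
    realised.app _ (show (0 : ℕ) < tab.ng by decide)] at hval
  have hv' : tab.walk (tab.walk (tab.walk (genPts.getD 1 0) [0]) [2]) [4] = genPts.getD 1 0 := hval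
  rw [show Nat.beq _ _ = true from Nat.beq_eq ▸ hv'] at hm
  exact Bool.noConfusion hm

theorem pair_refute {a b : Fin tab.n} (hne : a ≠ b) (hcom : phi (refl a) b = b)
    (hz : (Subgroup.centralizer ({refl a * refl b} : Set Cfsg.Spor.Fi23)).index = 31671) :
    False := by
  haveI := card_fi.1
  obtain ⟨u, hua, hub⟩ := pair_std hne hcom
  obtain ⟨⟨g20, -, -⟩, o20, -, -⟩ := gp_facts
  obtain ⟨v, hva, hvb⟩ := pair_std (Ne.symm g20)
    ((refl_fix_comm).1 ((gp_pattern (by norm_num) (by norm_num)).2 o20))
  have es : ∀ (w : Cfsg.Spor.Fi23) (x y : Fin tab.n), phi w x = origin → phi w y = ptB →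
      eltT * refl ptB = w * (refl x * refl y) * w⁻¹ := by
    intro w x y hx hy
    rw [← refl_origin, ← hx, ← hy, ← refl_conj, ← refl_conj]
    group
  have h1 := es u a b hua hub
  have h2 := es v _ _ hva hvb
  have hidx : (Subgroup.centralizer ({eltT * refl ptB} : Set Cfsg.Spor.Fi23)).index = 31671 := by
    rw [h1, index_conj, hz]
  have hB : phi (refl ptB) origin = origin := refl_fix_comm.1 (by
    rw [refl_origin]
    refine Fin.ext ((realised.act_apply (fun g hg => ?_) ptB).trans
      (Nat.eq_of_beq_eq_true tri_starts.2.2.2.2))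
    have h := roots_t
    simp only [Bool.and_eq_true, List.all_eq_true, Nat.blt_eq] at h
    exact h.2 g hg)
  have h0 : phi (eltT * refl ptB) origin = origin := by
    rw [map_mul, Equiv.Perm.mul_apply, hB, ← refl_origin, refl_fix_self]
  let O := {q : Fin tab.n | ∃ m ∈ genGrp forest.words fiGen, phi m ptB = q}
  have hO : Nat.card O = 3510 := by
    rw [Nat.card_coe_set_eq, forest_ok.orbit_card realised ptB,
      show forest.lab ptB.val = 1 from tri_starts.2.2.2.1, forest_count (by norm_num)]
    rfl
  have hb := orbit_bound hidx h0 (fun q : O => eltT * refl q.1)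
    (fun p q e => Subtype.ext (refl_injective (mul_left_cancel e)))
    (fun q => by
      obtain ⟨m, hm, e⟩ := q.2
      refine ⟨m, hm, ?_⟩
      show m * (eltT * refl ptB) * m⁻¹ = eltT * refl q.1
      rw [← e, ← refl_conj]
      calc m * (eltT * refl ptB) * m⁻¹ = m * eltT * m⁻¹ * (m * refl ptB * m⁻¹) := by group
        _ = _ := by rw [show m * eltT = eltT * m from (t_central hm).symm, mul_inv_cancel_right])
  rw [hO, h2, fix_card_conj, ← gen_refl 0 (by norm_num), ← gen_refl 2 (by norm_num),
    ← act_pair fiGen 2 0, fix_card (by decide), fix_counts.1] at hb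
  omega

theorem lev0_info : (lev 0).base = 106 ∧ (lev 0).pts.length = 693 := by decide +kernel

theorem triple_refute {a b c : Fin tab.n} (hab : a ≠ b) (hac : a ≠ c) (hbc : b ≠ c)
    (h1 : phi (refl a) b = b) (h2 : phi (refl a) c = c) (h3 : phi (refl b) c = c)
    (hz : (Subgroup.centralizer ({refl a * refl b * refl c} : Set Cfsg.Spor.Fi23)).index = 31671) :
    False := by
  haveI := card_fi.1
  obtain ⟨u, hua, hub, huc⟩ := triple_std hab hac hbc h1 h2 h3
  obtain ⟨⟨g20, g40, g42⟩, o20, o40, o42⟩ := gp_facts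
  have p20 : phi (refl (gp 2)) (gp 0) = gp 0 := (gp_pattern (by norm_num) (by norm_num)).2 o20
  have p40 : phi (refl (gp 4)) (gp 0) = gp 0 := (gp_pattern (by norm_num) (by norm_num)).2 o40
  have p42 : phi (refl (gp 4)) (gp 2) = gp 2 := (gp_pattern (by norm_num) (by norm_num)).2 o42
  obtain ⟨v, hva, hvb, hvc⟩ := triple_std (Ne.symm g20) (Ne.symm g40) (Ne.symm g42)
    (refl_fix_comm.1 p20) (refl_fix_comm.1 p40) (refl_fix_comm.1 p42)
  have es : ∀ (w : Cfsg.Spor.Fi23) (x y z : Fin tab.n), phi w x = origin → phi w y = ptB →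
      phi w z = ptC → eltT * refl ptB * refl ptC = w * (refl x * refl y * refl z) * w⁻¹ := by
    intro w x y z hx hy hz'
    rw [← refl_origin, ← hx, ← hy, ← hz', ← refl_conj, ← refl_conj, ← refl_conj]
    group
  have h1' := es u a b c hua hub huc
  have h2' := es v _ _ _ hva hvb hvc
  have hidx : (Subgroup.centralizer ({eltT * refl ptB * refl ptC} :
      Set Cfsg.Spor.Fi23)).index = 31671 := by
    rw [h1', index_conj, hz]
  have hfix : ∀ (w : Cfsg.Spor.Fi23) (x y : Fin tab.n), phi (refl x) y = y →
      phi (refl (phi w x)) (phi w y) = phi w y := by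
    intro w x y hxy
    rw [← refl_conj, map_mul, map_mul, Equiv.Perm.mul_apply, Equiv.Perm.mul_apply, map_inv,
      Equiv.Perm.inv_def, Equiv.symm_apply_apply, hxy]
  have f1 := refl_fix_comm.1 (hua ▸ hub ▸ hfix u a b h1)
  have f2 := refl_fix_comm.1 (hua ▸ huc ▸ hfix u a c h2)
  have h0 : phi (eltT * refl ptB * refl ptC) origin = origin := by
    rw [map_mul, Equiv.Perm.mul_apply, f2, map_mul, Equiv.Perm.mul_apply, f1, ← refl_origin,
      refl_fix_self]
  have hok := levels_ok.1
  rw [levels_eq] at hok
  simp only [Fast.levelsOk, Bool.and_eq_true] at hok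
  have hspec := Fast.level_spec realised hok.1
  obtain ⟨hbase, hlen⟩ := lev0_info
  have hl := hok.1
  simp only [Fast.levelOk, Bool.and_eq_true, List.all_eq_true, Nat.blt_eq] at hl
  have hnd := (Fast.nodupB_spec hl.2).1
  let f : Fin (lev 0).pts.length → Cfsg.Spor.Fi23 := fun k =>
    eltT * refl ptB * refl ⟨(lev 0).pts[k.val], hl.1.2 _ (List.getElem_mem _)⟩
  have hb := orbit_bound hidx h0 f
    (fun p q e => Fin.ext (hnd.getElem_inj_iff.1
      (congrArg Fin.val (refl_injective (mul_left_cancel e)))))
    (fun k => by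
      obtain ⟨w1, w2, w3⟩ := hspec k.val k.isLt (k.val + 1) (Nat.lt_succ_self _)
      set m := act fiGen ((lev 0).word (k.val + 1) k.val)
      have m0 : phi m origin = origin := w2 origin (by simp [origin])
      have mB : phi m ptB = ptB := w2 ptB (by simp [ptB])
      have mC : phi m ptC = ⟨(lev 0).pts[k.val], hl.1.2 _ (List.getElem_mem _)⟩ := by
        refine Fin.ext ?_
        rw [realised.act_apply w1, show ptC.val = (lev 0).base from hbase.symm, w3,
          List.getD_eq_getElem _ _ k.isLt]
      refine ⟨m, mem_subH_iff.2 m0, ?_⟩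
      show m * (eltT * refl ptB * refl ptC) * m⁻¹ = eltT * refl ptB * refl _
      rw [← mC, ← refl_origin]
      calc m * (refl origin * refl ptB * refl ptC) * m⁻¹
          = m * refl origin * m⁻¹ * (m * refl ptB * m⁻¹) * (m * refl ptC * m⁻¹) := by group
        _ = _ := by rw [refl_conj, refl_conj, refl_conj, m0, mB])
  rw [Nat.card_fin, hlen, h2', fix_card_conj, ← gen_refl 0 (by norm_num),
    ← gen_refl 2 (by norm_num), ← gen_refl 4 (by norm_num),
    show fiGen 0 * fiGen 2 * fiGen 4 = act fiGen [4, 2, 0] from by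
      simp only [act_cons, act_nil, one_mul], fix_card (by decide), fix_counts.2] at hb
  omega

/-! ### The commuting set -/

theorem clique_words : clique.length = 23 ∧ clique.all pointOk = true ∧
    clique.all (fun e => clique.all fun d => Nat.beq (tab.walk d.1 e.2.1) d.1) = true ∧
    (clique.map fun e => e.1).Nodup ∧ cliqueBasis.all (fun k => Nat.blt k 23) = true := by
  decide +kernel

/-- The points of the commuting set. -/
def cliquePts : List ℕ := clique.map fun e => e.1

theorem cliquePts_lt (k : ℕ) : cliquePts.getD k 0 < tab.n := by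
  by_cases h : k < cliquePts.length
  · rw [List.getD_eq_getElem _ _ h]
    obtain ⟨e, he, e1⟩ := List.mem_map.1 (List.getElem_mem h)
    rw [← e1]
    exact (act_point (List.all_eq_true.1 clique_words.2.1 e he)).1
  · rw [List.getD_eq_default _ _ (Nat.le_of_not_lt h)]
    exact zero_lt

/-- A member of the commuting set. -/
def cl (k : ℕ) : Fin tab.n := ⟨cliquePts.getD k 0, cliquePts_lt k⟩

/-- The word of a member. -/
def cliqueWord (k : ℕ) : List ℕ := (clique.getD k (0, [], [])).2.1

theorem cl_word {k : ℕ} (hk : k < 23) :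
    act fiGen (cliqueWord k) = refl (cl k) ∧ ∀ g ∈ cliqueWord k, g < 10 := by
  have hk' : k < clique.length := clique_words.1 ▸ hk
  obtain ⟨hq, e1, e2⟩ := act_point
    (List.all_eq_true.1 clique_words.2.1 _ (List.getElem_mem hk'))
  refine ⟨?_, ?_⟩
  · rw [cliqueWord, List.getD_eq_getElem _ _ hk', e1]
    refine congrArg refl (Fin.ext ?_)
    show (clique[k]).1 = cliquePts.getD k 0
    rw [cliquePts, List.getD_eq_getElem _ _ (by simpa using hk'), List.getElem_map]
  · rw [cliqueWord, List.getD_eq_getElem _ _ hk']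
    exact e2

theorem cl_fix {k l : ℕ} (hk : k < 23) (hl : l < 23) : phi (refl (cl k)) (cl l) = cl l := by
  have hk' : k < clique.length := clique_words.1 ▸ hk
  have hl' : l < clique.length := clique_words.1 ▸ hl
  obtain ⟨e1, e2⟩ := cl_word hk
  refine Fin.ext ?_
  rw [← e1, realised.act_apply e2]
  have h := clique_words.2.2.1
  simp only [List.all_eq_true, Nat.beq_eq] at h
  show tab.walk (cliquePts.getD l 0) (cliqueWord k) = cliquePts.getD l 0
  rw [cliqueWord, List.getD_eq_getElem _ _ hk', cliquePts,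
    List.getD_eq_getElem _ _ (by simpa using hl'), List.getElem_map]
  exact h _ (List.getElem_mem hk') _ (List.getElem_mem hl')

theorem cl_ne {k l : ℕ} (hk : k < 23) (hl : l < 23) (h : k ≠ l) : cl k ≠ cl l := by
  intro e
  have hk' : k < clique.length := clique_words.1 ▸ hk
  have hl' : l < clique.length := clique_words.1 ▸ hl
  have e' : cliquePts.getD k 0 = cliquePts.getD l 0 := congrArg Fin.val e
  rw [cliquePts, List.getD_eq_getElem _ _ (by simpa using hk'),
    List.getD_eq_getElem _ _ (by simpa using hl')] at e'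
  exact h (clique_words.2.2.2.1.getElem_inj_iff.1 e')

theorem basis_lt (j : ℕ) : cliqueBasis.getD j 0 < 23 := by
  by_cases h : j < cliqueBasis.length
  · rw [List.getD_eq_getElem _ _ h]
    simpa [Nat.blt_eq] using List.all_eq_true.1 clique_words.2.2.2.2 _ (List.getElem_mem h)
  · rw [List.getD_eq_default _ _ (Nat.le_of_not_lt h)]
    norm_num

/-- The word of a sum of basis members. -/
def vecWord : ℕ → ℕ → List ℕ
  | 0, _ => []
  | j + 1, v => (if v.testBit j then cliqueWord (cliqueBasis.getD j 0) else []) ++ vecWord j v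

/-- A sum of basis members. -/
noncomputable def vecElt : ℕ → ℕ → Cfsg.Spor.Fi23
  | 0, _ => 1
  | j + 1, v => vecElt j v * (if v.testBit j then refl (cl (cliqueBasis.getD j 0)) else 1)

theorem act_vecWord : ∀ j v, act fiGen (vecWord j v) = vecElt j v
  | 0, _ => rfl
  | j + 1, v => by
    rw [vecWord, vecElt, act_append, act_vecWord j v]
    congr 1
    split_ifs
    exacts [(cl_word (basis_lt j)).1, rfl]

theorem vecElt_comm (k : ℕ) (hk : k < 23) :
    ∀ j v, refl (cl k) * vecElt j v = vecElt j v * refl (cl k)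
  | 0, v => by simp [vecElt]
  | j + 1, v => by
    have hc : refl (cl k) * refl (cl (cliqueBasis.getD j 0)) =
        refl (cl (cliqueBasis.getD j 0)) * refl (cl k) :=
      commute_refl.2 (cl_fix hk (basis_lt j))
    rw [vecElt]
    split_ifs
    · rw [← mul_assoc, vecElt_comm k hk j v, mul_assoc, hc, mul_assoc]
    · rw [mul_one, vecElt_comm k hk j v]

theorem vecElt_xor : ∀ j v w, vecElt j (v ^^^ w) = vecElt j v * vecElt j w
  | 0, _, _ => (one_mul _).symm
  | j + 1, v, w => by
    have hb := vecElt_comm _ (basis_lt j) j w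
    have hsq := refl_sq (cl (cliqueBasis.getD j 0))
    simp only [vecElt, vecElt_xor j v w, Nat.testBit_xor]
    generalize refl (cl (cliqueBasis.getD j 0)) = B at hb hsq
    cases v.testBit j <;> cases w.testBit j <;>
      simp only [Bool.xor_false, Bool.xor_true, Bool.not_true, Bool.not_false, Bool.false_eq_true,
        if_false, if_true, mul_one, ↓reduceIte, mul_assoc]
    · rw [hb]
    · rw [← mul_assoc B (vecElt j w) B, hb, mul_assoc, hsq, mul_one]

/-- The element of a vector. -/
noncomputable def eVec (v : ℕ) : Cfsg.Spor.Fi23 := vecElt 11 v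

theorem code_check : (List.range 23).all (fun k =>
      sameBase (cliqueWord k) (vecWord 11 (cliqueCode.getD k 0))) = true ∧
    (List.range 2048).all (fun v =>
      let S := cliqueSums.getD v []
      Nat.beq (S.foldr (fun k a => cliqueCode.getD k 0 ^^^ a) 0) v &&
        decide (S.Nodup ∧ S.length ≤ 3) && S.all fun k => Nat.blt k 23) = true := by
  decide +kernel

theorem eVec_fold : ∀ {S : List ℕ}, (∀ k ∈ S, k < 23) →
    eVec (S.foldr (fun k a => cliqueCode.getD k 0 ^^^ a) 0) = (S.map fun k => refl (cl k)).prod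
  | [], _ => by simp [eVec, vecElt]
  | k :: S, h => by
    have hk := h k List.mem_cons_self
    have e : eVec (cliqueCode.getD k 0) = refl (cl k) := by
      rw [eVec, ← act_vecWord, ← (cl_word hk).1]
      exact (eq_of_base (List.all_eq_true.1 code_check.1 k (List.mem_range.2 hk))).symm
    rw [List.foldr_cons, List.map_cons, List.prod_cons,
      ← eVec_fold (S := S) fun a ha => h a (List.mem_cons_of_mem _ ha), ← e]
    exact vecElt_xor 11 _ _

theorem eVec_short {v : ℕ} (hv : v < 2048) : ∃ S : List ℕ, S.Nodup ∧ S.length ≤ 3 ∧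
    (∀ k ∈ S, k < 23) ∧ eVec v = (S.map fun k => refl (cl k)).prod ∧ (S = [] → v = 0) := by
  have h := List.all_eq_true.1 code_check.2 v (List.mem_range.2 hv)
  simp only [Bool.and_eq_true, Nat.beq_eq, decide_eq_true_eq, List.all_eq_true, Nat.blt_eq] at h
  obtain ⟨⟨e, h1, h2⟩, h3⟩ := h
  refine ⟨_, h1, h2, h3, ?_, fun hS => ?_⟩
  · rw [← eVec_fold h3, e]
  · rw [hS] at e
    exact e.symm

theorem eVec_ne_one {v : ℕ} (hv : v < 2048) (h0 : v ≠ 0) : eVec v ≠ 1 := by
  obtain ⟨S, hnd, hlen, hlt, e, hnil⟩ := eVec_short hv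
  rw [e]
  match S, hlen, hnd, hlt, hnil with
  | [], _, _, _, hnil => exact absurd (hnil rfl) h0
  | [a], _, _, _, _ => simpa using refl_ne_one (cl a)
  | [a, b], _, hnd, hlt, _ =>
    simp only [List.mem_cons, List.not_mem_nil, or_false, forall_eq_or_imp, forall_eq] at hlt
    intro he
    simp only [List.map_cons, List.map_nil, List.prod_cons, List.prod_nil, mul_one] at he
    have e2 : refl (cl a) = refl (cl b) := by
      rw [eq_inv_of_mul_eq_one_left he]
      exact inv_eq_of_mul_eq_one_right (refl_sq _)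
    have hab : a ≠ b := by simpa using hnd
    exact cl_ne hlt.1 hlt.2 hab (refl_injective e2)
  | [a, b, c], _, hnd, hlt, _ =>
    simp only [List.mem_cons, List.not_mem_nil, or_false, forall_eq_or_imp, forall_eq] at hlt
    simp only [List.nodup_cons, List.mem_cons, List.not_mem_nil, or_false, not_or] at hnd
    obtain ⟨⟨hab, hac⟩, hbc, -⟩ := hnd
    obtain ⟨ha, hb, hc⟩ := hlt
    simp only [List.map_cons, List.map_nil, List.prod_cons, List.prod_nil, mul_one, ← mul_assoc]
    exact triple_ne_one (cl_ne ha hb hab) (cl_ne ha hc hac) (cl_ne hb hc hbc)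
      (cl_fix ha hb) (cl_fix ha hc) (cl_fix hb hc)
  | _ :: _ :: _ :: _ :: _, hlen, _, _, _ => simp only [List.length_cons] at hlen; omega

theorem eVec_mem (v : ℕ) : eVec v ∈ Fast.fixSub phi cliquePts := by
  have hr : ∀ k, k < 23 → refl (cl k) ∈ Fast.fixSub phi cliquePts := by
    intro k hk i hi
    obtain ⟨l, hl, e⟩ := List.getElem_of_mem hi
    have hl23 : l < 23 := by
      have : cliquePts.length = 23 := by rw [cliquePts, List.length_map]; exact clique_words.1
      omega
    have : i = cl l := Fin.ext (by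
      show i.val = cliquePts.getD l 0
      rw [List.getD_eq_getElem _ _ hl, e])
    rw [this]
    exact cl_fix hk hl23
  have : ∀ j, vecElt j v ∈ Fast.fixSub phi cliquePts := by
    intro j
    induction j with
    | zero => exact Subgroup.one_mem _
    | succ j ih =>
      rw [vecElt]
      split_ifs
      · exact Subgroup.mul_mem _ ih (hr _ (basis_lt j))
      · exact Subgroup.mul_mem _ ih (Subgroup.one_mem _)
  exact this 11

theorem level_facts : Fast.levelsOk tab [0, 52, 106, 174, 1611] [cliqueLevel] = true ∧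
    cliqueLevel.pts.length = 3 ∧ cliquePts.contains cliqueLevel.base = true ∧
    ([0, 52, 106, 174, 1611] : List ℕ).all (fun p => cliquePts.contains p) = true ∧
    ([0, 52] ++ [(lev 0).base] ++ [(lev 1).base] ++ [(lev 2).base]) = [0, 52, 106, 174, 1611] ∧
    ([lev 3, lev 4, lev 5, lev 6, lev 7].map fun l => l.pts.length).prod = 6144 ∧
    ((lev 0).base < 31671 ∧ (lev 1).base < 31671 ∧ (lev 2).base < 31671) := by
  decide +kernel

theorem clique_fix_card : Nat.card (Fast.fixSub phi cliquePts) ≤ 2048 := by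
  haveI := card_fi.1
  obtain ⟨l1, l2, l3, l4, l5, l6, b0, b1, b2⟩ := level_facts
  have hprod := levels_ok.2.1
  have h0 : Nat.card (Fast.fixSub phi [0, 52]) ≤ (levels.map fun l => l.pts.length).prod := by
    have := fix_lower
    rw [card_all.2.2.1, ← hprod] at this
    exact Nat.le_of_mul_le_mul_left this (by norm_num)
  have hok := levels_ok.1
  rw [levels_eq] at hok h0
  have hok1 := hok
  simp only [Fast.levelsOk, Bool.and_eq_true] at hok1
  have hokB : Fast.levelsOk tab ([0, 52] ++ [(lev 0).base])
      [lev 1, lev 2, lev 3, lev 4, lev 5, lev 6, lev 7] = true := by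
    simp only [Fast.levelsOk, Bool.and_eq_true]; exact hok1.2
  have hokC : Fast.levelsOk tab ([0, 52] ++ [(lev 0).base] ++ [(lev 1).base])
      [lev 2, lev 3, lev 4, lev 5, lev 6, lev 7] = true := by
    simp only [Fast.levelsOk, Bool.and_eq_true]; exact hok1.2.2
  have s1 := (Fast.orbit_exact realised hok h0 1 (Subgroup.one_mem _) _ _ rfl ⟨(lev 0).base, b0⟩ rfl).2
  have s2 := (Fast.orbit_exact realised hokB s1 1 (Subgroup.one_mem _) _ _ rfl ⟨(lev 1).base, b1⟩ rfl).2
  have s3 := (Fast.orbit_exact realised hokC s2 1 (Subgroup.one_mem _) _ _ rfl ⟨(lev 2).base, b2⟩ rfl).2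
  rw [l5, l6] at s3
  have h4 := Fast.card_lower realised l1
  simp only [List.map_cons, List.map_nil, List.prod_cons, List.prod_nil, mul_one, l2] at h4
  have hle : Fast.fixSub phi cliquePts ≤
      Fast.fixSub phi ([0, 52, 106, 174, 1611] ++ [cliqueLevel.base]) := by
    refine Fast.fixSub_le fun p hp => ?_
    simp only [List.all_eq_true, List.contains_iff_mem] at l4 l3
    rcases List.mem_append.1 hp with hp | hp
    · exact l4 p hp
    · rw [List.mem_singleton.1 hp]; exact l3
  have h5 := Subgroup.card_le_of_le hle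
  omega

theorem eVec_surj {m : Cfsg.Spor.Fi23} (hm : m ∈ Fast.fixSub phi cliquePts) :
    ∃ v, v < 2048 ∧ eVec v = m := by
  haveI := card_fi.1
  let f : Fin 2048 → Fast.fixSub phi cliquePts := fun v => ⟨eVec v.val, eVec_mem _⟩
  have hf : Function.Injective f := by
    intro a b e
    have e' : eVec a.val = eVec b.val := congrArg Subtype.val e
    by_contra hne
    refine eVec_ne_one (v := a.val ^^^ b.val) (Nat.xor_lt_two_pow (n := 11) a.isLt b.isLt) ?_ ?_
    · exact fun h => hne (Fin.ext (Nat.xor_eq_zero_iff.1 h))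
    · rw [eVec, vecElt_xor]
      show eVec a.val * eVec b.val = 1
      rw [e', eVec, ← vecElt_xor, Nat.xor_self]
      simp [vecElt]
  have hb : Function.Bijective f := (Nat.bijective_iff_injective_and_card _).2
    ⟨hf, le_antisymm (Nat.card_le_card_of_injective f hf) (by simpa using clique_fix_card)⟩
  obtain ⟨v, hv⟩ := hb.2 ⟨m, hm⟩
  exact ⟨v.val, v.isLt, congrArg Subtype.val hv⟩

/-- An involution with a centraliser of index 31671 is a transposition. -/
theorem involution_refl {z : Cfsg.Spor.Fi23} (hz1 : z ≠ 1)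
    (hidx : (Subgroup.centralizer ({z} : Set Cfsg.Spor.Fi23)).index = 31671) :
    ∃ q, z = refl q := by
  haveI := card_fi.1
  set P := Fast.fixSub phi cliquePts with hP
  set C := Subgroup.centralizer ({z} : Set Cfsg.Spor.Fi23) with hC
  have hp2 : IsPGroup 2 P := by
    intro m
    obtain ⟨v, -, e⟩ := eVec_surj m.2
    refine ⟨1, Subtype.ext ?_⟩
    rw [pow_one, pow_two, Subgroup.coe_mul, ← e, eVec, ← vecElt_xor, Nat.xor_self]
    simp [vecElt]
  letI : MulAction P (Cfsg.Spor.Fi23 ⧸ C) := MulAction.compHom _ P.subtype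
  haveI : Fact (Nat.Prime 2) := ⟨Nat.prime_two⟩
  obtain ⟨x, hx⟩ := hp2.nonempty_fixed_point_of_prime_not_dvd_card (Cfsg.Spor.Fi23 ⧸ C) (by
    rw [← Subgroup.index_eq_card, hidx]; norm_num)
  obtain ⟨g, rfl⟩ := QuotientGroup.mk_surjective x
  have hcomm : ∀ m ∈ P, m * (g * z * g⁻¹) = g * z * g⁻¹ * m := by
    intro m hm
    have e : ((m * g : Cfsg.Spor.Fi23) : Cfsg.Spor.Fi23 ⧸ C) = (g : Cfsg.Spor.Fi23 ⧸ C) :=
      hx ⟨m, hm⟩
    rw [eq_comm, QuotientGroup.eq, hC, Subgroup.mem_centralizer_singleton_iff] at e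
    calc m * (g * z * g⁻¹) = g * (g⁻¹ * (m * g) * z) * g⁻¹ := by group
      _ = g * (z * (g⁻¹ * (m * g))) * g⁻¹ := by rw [e]
      _ = _ := by group
  have hmem : g * z * g⁻¹ ∈ P := by
    intro i hi
    obtain ⟨l, hl, e⟩ := List.getElem_of_mem hi
    have hl23 : l < 23 := by
      have : cliquePts.length = 23 := by rw [cliquePts, List.length_map]; exact clique_words.1
      omega
    have hr : refl (cl l) ∈ P := fun j hj => by
      obtain ⟨l', hl', e'⟩ := List.getElem_of_mem hj
      have hl'23 : l' < 23 := by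
        have : cliquePts.length = 23 := by rw [cliquePts, List.length_map]; exact clique_words.1
        omega
      rw [show j = cl l' from Fin.ext (by
        show j.val = cliquePts.getD l' 0
        rw [List.getD_eq_getElem _ _ hl', e'])]
      exact cl_fix hl23 hl'23
    rw [show i = cl l from Fin.ext (by
      show i.val = cliquePts.getD l 0
      rw [List.getD_eq_getElem _ _ hl, e])]
    exact commute_refl.1 (hcomm _ hr).symm
  obtain ⟨v, hv, e⟩ := eVec_surj hmem
  obtain ⟨S, hnd, hlen, hlt, eS, -⟩ := eVec_short hv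
  have hidx' : (Subgroup.centralizer ({g * z * g⁻¹} : Set Cfsg.Spor.Fi23)).index = 31671 := by
    rw [index_conj]; exact hidx
  rw [← e, eS] at hidx'
  match S, hlen, hnd, hlt, eS, hidx' with
  | [], _, _, _, eS, _ =>
    refine absurd ?_ hz1
    rw [eS, List.map_nil, List.prod_nil] at e
    calc z = g⁻¹ * (g * z * g⁻¹) * g := by group
      _ = 1 := by rw [← e]; group
  | [a], _, _, _, eS, _ =>
    refine ⟨phi g⁻¹ (cl a), ?_⟩
    rw [eS, List.map_cons, List.map_nil, List.prod_cons, List.prod_nil, mul_one] at e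
    rw [← refl_conj, e]
    group
  | [a, b], _, hnd, hlt, _, hidx' =>
    simp only [List.mem_cons, List.not_mem_nil, or_false, forall_eq_or_imp, forall_eq] at hlt
    simp only [List.map_cons, List.map_nil, List.prod_cons, List.prod_nil, mul_one] at hidx'
    have hab : a ≠ b := by simpa using hnd
    exact (pair_refute (cl_ne hlt.1 hlt.2 hab) (cl_fix hlt.1 hlt.2) hidx').elim
  | [a, b, c], _, hnd, hlt, _, hidx' =>
    simp only [List.mem_cons, List.not_mem_nil, or_false, forall_eq_or_imp, forall_eq] at hlt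
    simp only [List.nodup_cons, List.mem_cons, List.not_mem_nil, or_false, not_or] at hnd
    obtain ⟨⟨hab, hac⟩, hbc, -⟩ := hnd
    obtain ⟨ha, hb, hc⟩ := hlt
    simp only [List.map_cons, List.map_nil, List.prod_cons, List.prod_nil, mul_one,
      ← mul_assoc] at hidx'
    exact (triple_refute (cl_ne ha hb hab) (cl_ne ha hc hac) (cl_ne hb hc hbc)
      (cl_fix ha hb) (cl_fix ha hc) (cl_fix hb hc) hidx').elim
  | _ :: _ :: _ :: _ :: _, hlen, _, _, _, _ => simp only [List.length_cons] at hlen; omega

/-- Every automorphism is inner. -/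
theorem aut_inner (f : MulAut Cfsg.Spor.Fi23) : ∃ h, f = MulAut.conj h := by
  haveI := card_fi.1
  have himg : ∀ i, i < 10 → ∃ q, f (fiGen i) = refl q := by
    intro i hi
    refine involution_refl ?_ ?_
    · rw [Ne, EmbeddingLike.map_eq_one_iff, gen_refl i hi]
      exact refl_ne_one _
    · have e : Subgroup.centralizer ({f (fiGen i)} : Set Cfsg.Spor.Fi23) =
          (Subgroup.centralizer ({fiGen i} : Set Cfsg.Spor.Fi23)).map f.toMonoidHom := by
        ext y
        rw [Subgroup.mem_map_equiv, Subgroup.mem_centralizer_singleton_iff,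
          Subgroup.mem_centralizer_singleton_iff]
        constructor
        · intro h; exact f.injective (by simp [h])
        · intro h; simpa using congrArg f h
      rw [e]
      refine (Subgroup.index_map_equiv (Subgroup.centralizer ({fiGen i} : Set Cfsg.Spor.Fi23)) f).trans ?_
      rw [gen_refl i hi, refl, index_conj, centralizer_t]
      exact subH_spec.1
  let q : ℕ → Fin tab.n := fun i => if hi : i < 10 then (himg i hi).choose else origin
  have hq : ∀ i, i < 10 → f (fiGen i) = refl (q i) := fun i hi => by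
    simp only [q, dif_pos hi]
    exact (himg i hi).choose_spec
  have key : ∀ i j, i < 10 → j < 10 →
      (phi (refl (q i)) (q j) = q j ↔ phi (refl (gp i)) (gp j) = gp j) := by
    intro i j hi hj
    rw [← commute_refl, ← commute_refl, ← gen_refl i hi, ← gen_refl j hj, ← hq i hi, ← hq j hj,
      ← map_mul, ← map_mul, f.injective.eq_iff]
  have hgne : ∀ i j, i < 10 → j < 10 → gp i = gp j → i = j := by
    have h : (List.range 10).all (fun i => (List.range 10).all fun j =>
        decide (genPts.getD i 0 = genPts.getD j 0 → i = j)) = true := by decide +kernel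
    simp only [List.all_eq_true, List.mem_range, decide_eq_true_eq] at h
    exact fun i j hi hj e => h i hi j hj (congrArg Fin.val e)
  obtain ⟨h, hh⟩ := rigid q
    (fun i j hi hj hne e => hne (hgne i j hi hj (refl_injective (by
      rw [← gen_refl i hi, ← gen_refl j hj]
      exact f.injective (by rw [hq i hi, hq j hj, e])))))
    (fun i j hi hj hne => (key i j hi hj).trans (gp_pattern hi hj))
  refine ⟨h⁻¹, ?_⟩
  have hom : f.toMonoidHom = (MulAut.conj h⁻¹).toMonoidHom := by
    refine PresentedGroup.ext fun x => ?_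
    have hx := fi_ok.ix_lt x
    rw [← CoxData.gen_ix (P := fiData) fi_ok x]
    show f (fiGen (genIx x)) = h⁻¹ * fiGen (genIx x) * h⁻¹⁻¹
    rw [hq _ hx, gen_refl _ hx, ← hh _ hx, ← refl_conj]
    group
  exact MulEquiv.ext fun y => DFunLike.congr_fun hom y

end CfsgLib.Fi23P
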