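import Cfsg.Agent.Lib.Fi23P.MultLift

/-!
The transpositions as points, and searches among the points.
-/

set_option autoImplicit false
set_option maxRecDepth 100000

namespace CfsgLib.Fi23P

open CfsgLib.PresCert Cfsg.Spor

attribute [local irreducible] relShort levels wordA rootWords baseL

/-- The first point. -/
def origin : Fin tab.n := ⟨0, zero_lt⟩

theorem exists_toPoint (q : Fin tab.n) : ∃ m, phi m origin = q :=
  haveI := card_fi.1
  (Fast.card_trans (M := Cfsg.Spor.Fi23) (φ := phi) realised zero_lt tree_ok).1 origin q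

/-- An element carrying the first point to a given one. -/
noncomputable def toPoint (q : Fin tab.n) : Cfsg.Spor.Fi23 :=
  (exists_toPoint q).choose

theorem phi_toPoint (q : Fin tab.n) : phi (toPoint q) origin = q :=
  (exists_toPoint q).choose_spec

theorem mem_subH_iff {m : Cfsg.Spor.Fi23} : m ∈ subH ↔ phi m origin = origin := by
  rw [subH_eq]
  refine ⟨fun h => h origin (List.mem_singleton.2 rfl), fun h i hi => ?_⟩
  obtain rfl : i = origin := Fin.ext (List.mem_singleton.1 hi)
  exact h

/-- The transposition of a point. -/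
noncomputable def refl (q : Fin tab.n) : Cfsg.Spor.Fi23 := toPoint q * eltT * (toPoint q)⁻¹

theorem refl_of {m : Cfsg.Spor.Fi23} {q : Fin tab.n} (h : phi m origin = q) :
    refl q = m * eltT * m⁻¹ := by
  have hm : m⁻¹ * toPoint q ∈ subH := by
    rw [mem_subH_iff, map_mul, Equiv.Perm.mul_apply, phi_toPoint, map_inv, Equiv.Perm.inv_def,
      Equiv.symm_apply_eq, h]
  have e := t_central hm
  calc toPoint q * eltT * (toPoint q)⁻¹
      = m * (m⁻¹ * toPoint q * eltT) * (m⁻¹ * toPoint q)⁻¹ * m⁻¹ := by group
    _ = m * (eltT * (m⁻¹ * toPoint q)) * (m⁻¹ * toPoint q)⁻¹ * m⁻¹ := by rw [e]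
    _ = _ := by group

theorem refl_conj (h : Cfsg.Spor.Fi23) (q : Fin tab.n) :
    h * refl q * h⁻¹ = refl (phi h q) := by
  rw [refl_of (m := h * toPoint q) (q := phi h q)
    (by rw [map_mul, Equiv.Perm.mul_apply, phi_toPoint]), refl]
  group

theorem refl_injective : Function.Injective refl := by
  intro q r h
  have hm : (toPoint r)⁻¹ * toPoint q ∈ Subgroup.centralizer ({eltT} : Set Cfsg.Spor.Fi23) := by
    rw [Subgroup.mem_centralizer_singleton_iff]
    calc (toPoint r)⁻¹ * toPoint q * eltT
        = (toPoint r)⁻¹ * refl q * toPoint q := by rw [refl]; group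
      _ = (toPoint r)⁻¹ * refl r * toPoint q := by rw [h]
      _ = _ := by rw [refl]; group
  rw [centralizer_t, mem_subH_iff, map_mul, Equiv.Perm.mul_apply, phi_toPoint, map_inv,
    Equiv.Perm.inv_def, Equiv.symm_apply_eq, phi_toPoint] at hm
  exact hm

theorem refl_origin : refl origin = eltT := by
  rw [refl_of (m := 1) (q := origin) (by simp)]
  group

theorem commute_refl {h : Cfsg.Spor.Fi23} {q : Fin tab.n} :
    h * refl q = refl q * h ↔ phi h q = q := by
  have key : h * refl q = refl q * h ↔ h * refl q * h⁻¹ = refl q := by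
    rw [mul_inv_eq_iff_eq_mul]
  rw [key, refl_conj]
  exact refl_injective.eq_iff

theorem refl_sq (q : Fin tab.n) : refl q * refl q = 1 := by
  rw [refl]
  calc toPoint q * eltT * (toPoint q)⁻¹ * (toPoint q * eltT * (toPoint q)⁻¹)
      = toPoint q * (eltT * eltT) * (toPoint q)⁻¹ := by group
    _ = 1 := by rw [t_sq]; group

theorem refl_ne_one (q : Fin tab.n) : refl q ≠ 1 := by
  intro h
  apply t_ne_one
  calc eltT = (toPoint q)⁻¹ * refl q * toPoint q := by rw [refl]; group
    _ = 1 := by rw [h]; group

theorem refl_fix_self (q : Fin tab.n) : phi (refl q) q = q := commute_refl.1 rfl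

theorem refl_fix_comm {p q : Fin tab.n} : phi (refl p) q = q ↔ phi (refl q) p = p := by
  rw [← commute_refl, ← commute_refl]
  exact eq_comm

/-- The point of the first generator. -/
noncomputable def ptA : ℕ := tab.walk 0 wordA

/-- The word of a reflection by a conjugating word. -/
def reflPath (w : List ℕ) : List ℕ := w.reverse ++ [0] ++ w

/-- A point, a word for its transposition and a conjugating word. -/
noncomputable def pointOk (e : ℕ × List ℕ × List ℕ) : Bool :=
  Nat.beq (tab.walk ptA e.2.2) e.1 && e.2.2.all (fun g => Nat.blt g 10) &&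
    sameBase e.2.1 (reflPath e.2.2)

theorem wordA_letters : wordA.all (fun g => Nat.blt g 10) = true := by decide +kernel

theorem act_point {e : ℕ × List ℕ × List ℕ} (h : pointOk e = true) :
    ∃ hq : e.1 < tab.n, act fiGen e.2.1 = refl ⟨e.1, hq⟩ ∧ ∀ g ∈ e.2.1, g < 10 := by
  simp only [pointOk, Bool.and_eq_true, Nat.beq_eq, List.all_eq_true, Nat.blt_eq] at h
  obtain ⟨⟨hw, hl⟩, hb⟩ := h
  have hA : ∀ g ∈ wordA, g < 10 := fun g hg => by
    simpa [Nat.blt_eq] using List.all_eq_true.1 wordA_letters g hg
  have hpt : ptA < tab.n := walk_lt hA zero_lt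
  have hlt : e.1 < tab.n := hw ▸ walk_lt hl hpt
  refine ⟨hlt, ?_, ?_⟩
  · rw [eq_of_base hb, reflPath, act_append, act_append, act_reverse fiGen_sq hl, act_cons,
      act_nil, one_mul, first_conj]
    rw [refl_of (m := act fiGen e.2.2 * act fiGen wordA) (q := ⟨e.1, hlt⟩) (Fin.ext (by
      rw [map_mul, Equiv.Perm.mul_apply, realised.act_apply hl, realised.act_apply hA]
      exact hw))]
    group
  · simp only [sameBase, Bool.and_eq_true, List.all_eq_true, Nat.blt_eq] at hb
    exact hb.1.2

/-! ### Searches -/

/-- A set of conditions on a point and the orbits among its solutions: points with words of their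
transpositions, the wanted fixing pattern, words fixing the points, and orbits as edge lists and
bit sets. -/
structure Node where
  /-- The fixed points and words of their transpositions. -/
  fixed : List (ℕ × List ℕ)
  /-- Whether the transposition is to fix the new point. -/
  pattern : List Bool
  /-- Words fixing the points. -/
  gens : List (List ℕ)
  /-- Starting points, edges and bit sets. -/
  orbits : List (ℕ × List (ℕ × ℕ) × ℕ)

/-- Following edges. -/
noncomputable def reachBits (gens : List (List ℕ)) : List (ℕ × ℕ) → ℕ → ℕ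
  | [], bits => bits
  | (g, a) :: es, bits =>
    reachBits gens es
      (bif bits.testBit a then bits ||| 2 ^ tab.walk a (gens.getD g []) else bits)

/-- The check of a node. -/
noncomputable def Node.ok (N : Node) : Bool :=
  decide (N.pattern.length = N.fixed.length) &&
    N.fixed.all (fun e => Nat.blt e.1 31671) &&
    N.gens.all (fun w => w.all (fun g => Nat.blt g 10) &&
      N.fixed.all fun e => Nat.beq (tab.walk e.1 w) e.1) &&
    N.orbits.all (fun o => Nat.blt o.1 31671 && Nat.beq (reachBits N.gens o.2.1 (2 ^ o.1)) o.2.2)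

/-- The conditions at a point. -/
noncomputable def Node.patOk (N : Node) (r : ℕ) : Bool :=
  (List.range N.fixed.length).all fun j =>
    !(Nat.beq r (N.fixed.getD j (0, [])).1) &&
      (Nat.beq (tab.walk r (N.fixed.getD j (0, [])).2) r == N.pattern.getD j false)

/-- Every solution lies in an orbit, on a block. -/
noncomputable def Node.candBlock (N : Node) (b : ℕ) : Bool :=
  (List.range 1000).all fun j =>
    let r := 1000 * b + j
    !(Nat.blt r 31671) || !(N.patOk r) || N.orbits.any fun o => o.2.2.testBit r

/-- Every solution lies in an orbit. -/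
noncomputable def Node.cands (N : Node) : Bool := (List.range 32).all N.candBlock

theorem Node.fix_spec {N : Node} (h : N.ok = true) :
    ∀ w ∈ N.gens, (∀ g ∈ w, g < 10) ∧
      act fiGen w ∈ Fast.fixSub phi (N.fixed.map fun e => e.1) := by
  simp only [Node.ok, Bool.and_eq_true, List.all_eq_true, Nat.blt_eq, Nat.beq_eq] at h
  intro w hw
  refine ⟨(h.1.2 w hw).1, fun i hi => Fin.ext ?_⟩
  obtain ⟨e, he, e1⟩ := List.mem_map.1 hi
  rw [realised.act_apply (h.1.2 w hw).1, ← e1]
  exact (h.1.2 w hw).2 e he

theorem reach_spec {gens : List (List ℕ)} {L : List ℕ} (s : Fin tab.n)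
    (hg : ∀ w ∈ gens, (∀ g ∈ w, g < 10) ∧ act fiGen w ∈ Fast.fixSub phi L) :
    ∀ {es : List (ℕ × ℕ)} {bits : ℕ},
      (∀ k, bits.testBit k = true → ∃ h ∈ Fast.fixSub phi L, (phi h s).val = k) →
      ∀ k, (reachBits gens es bits).testBit k = true → ∃ h ∈ Fast.fixSub phi L, (phi h s).val = k
  | [], _, hb => hb
  | (g, a) :: es, bits, hb => by
    simp only [reachBits]
    refine reach_spec s hg ?_
    cases ha : bits.testBit a
    · simpa using hb
    · intro k hk
      simp only [cond_true, Nat.testBit_or, Bool.or_eq_true, Nat.testBit_two_pow,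
        decide_eq_true_eq] at hk
      rcases hk with hk | hk
      · exact hb k hk
      · obtain ⟨h, hh, e⟩ := hb a ha
        subst hk
        by_cases hgl : g < gens.length
        · rw [List.getD_eq_getElem _ _ hgl]
          obtain ⟨w1, w2⟩ := hg _ (List.getElem_mem hgl)
          refine ⟨act fiGen gens[g] * h, Subgroup.mul_mem _ w2 hh, ?_⟩
          rw [map_mul, Equiv.Perm.mul_apply, realised.act_apply w1, e]
        · rw [List.getD_eq_default _ _ (Nat.le_of_not_lt hgl)]
          exact ⟨h, hh, e⟩

/-- A solution is carried to the start of one of the orbits. -/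
theorem Node.solve {N : Node} (h : N.ok = true) (hc : N.cands = true) (r : Fin tab.n)
    (hp : N.patOk r.val = true) :
    ∃ o ∈ N.orbits, ∃ m ∈ Fast.fixSub phi (N.fixed.map fun e => e.1), (phi m r).val = o.1 := by
  simp only [Node.cands, Node.candBlock, List.all_eq_true, List.mem_range, Bool.or_eq_true,
    Bool.not_eq_true', List.any_eq_true] at hc
  have hr : r.val < 31671 := r.isLt
  have h' := hc (r.val / 1000) (by omega) (r.val % 1000) (Nat.mod_lt _ (by norm_num))
  rw [Nat.div_add_mod] at h'
  rcases h' with (e | e) | ⟨o, ho, hbit⟩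
  · rw [show Nat.blt r.val 31671 = true by rw [Nat.blt_eq]; exact hr] at e
    exact Bool.noConfusion e
  · rw [hp] at e
    exact Bool.noConfusion e
  · have hg := Node.fix_spec h
    simp only [Node.ok, Bool.and_eq_true, List.all_eq_true, Nat.blt_eq, Nat.beq_eq] at h
    obtain ⟨ho1, ho2⟩ := h.2 o ho
    rw [← ho2] at hbit
    obtain ⟨m, hm, e⟩ := reach_spec ⟨o.1, ho1⟩ hg (bits := 2 ^ o.1)
      (fun k hk => by
        simp only [Nat.testBit_two_pow, decide_eq_true_eq] at hk
        exact ⟨1, Subgroup.one_mem _, by rw [map_one]; exact hk⟩) _ hbit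
    refine ⟨o, ho, m⁻¹, Subgroup.inv_mem _ hm, ?_⟩
    rw [show r = phi m ⟨o.1, ho1⟩ from Fin.ext e.symm, map_inv, Equiv.Perm.inv_def,
      Equiv.symm_apply_apply]

end CfsgLib.Fi23P
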