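import Cfsg.Agent.Lib.Fi23P.OutCheck0
import Cfsg.Agent.Lib.Fi23P.OutCheck1
import Cfsg.Agent.Lib.Fi23P.OutCheck2

/-!
Configurations of transpositions with the diagram of the generators are conjugate.
-/

set_option autoImplicit false
set_option maxRecDepth 100000

namespace CfsgLib.Fi23P

open CfsgLib.PresCert Cfsg.Spor

attribute [local irreducible] relShort levels wordA rootWords baseL

/-- Whether two generators commute. -/
def outCom (i j : ℕ) : Bool :=
  !((([(0, 1), (1, 2), (2, 3), (3, 4), (4, 5), (5, 6), (6, 7), (3, 8), (8, 9)] :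
      List (ℕ × ℕ)).contains (i, j)) ||
    (([(0, 1), (1, 2), (2, 3), (3, 4), (4, 5), (5, 6), (6, 7), (3, 8), (8, 9)] :
      List (ℕ × ℕ)).contains (j, i)))

/-- The generator in a place of the search order. -/
def ordAt (k : ℕ) : ℕ := outOrder.getD k 0

/-- The goal of the searches. -/
def finalPts : List ℕ := (List.range 10).map fun k => genPts.getD (ordAt k) 0

/-- The points of a search. -/
def Node.pts (N : Node) : List ℕ := N.fixed.map fun e => e.1

theorem point_words : pointList.all pointOk = true := by decide +kernel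

theorem tri_known : triNode.fixed.all (fun e => pointList.any fun p =>
    Nat.beq p.1 e.1 && decide (p.2.1 = e.2)) = true := by
  decide +kernel

theorem nodes_shape : outNodes.all (fun N =>
    N.fixed.all (fun e => pointList.any fun p => Nat.beq p.1 e.1 && decide (p.2.1 = e.2)) &&
    decide (N.pattern =
      (List.range N.fixed.length).map fun j => outCom (ordAt j) (ordAt N.fixed.length)) &&
    N.orbits.all (fun o => decide (N.pts ++ [o.1] = finalPts) ||
      decide ((N.pts ++ [o.1]).length < 10) &&
        outNodes.any fun M => decide (M.pts = N.pts ++ [o.1]))) = true := by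
  decide +kernel

theorem nodes_start : outNodes.any (fun N => decide (N.pts = finalPts.take 2)) = true := by
  decide +kernel

theorem order_ok : (List.range 10).all (fun k => Nat.blt (ordAt k) 10 &&
      (List.range 10).all fun j => decide (ordAt j = ordAt k → j = k)) = true ∧
    (List.range 10).all (fun i => (List.range 10).any fun k => Nat.beq (ordAt k) i) = true ∧
    (ordAt 0 = 0 ∧ ordAt 1 = 1) := by
  decide +kernel

theorem gen_pts : genPts.length = 10 ∧ genPts.all (fun p => Nat.blt p 31671) = true ∧
    Nat.beq (genPts.getD 0 0) ptA = true ∧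
    ([(0, 1), (1, 2), (2, 3), (3, 4), (4, 5), (5, 6), (6, 7), (3, 8), (8, 9)] :
      List (ℕ × ℕ)).all (fun e =>
        Nat.beq (tab.walk (genPts.getD e.1 0) [e.2, e.1]) (genPts.getD e.2 0)) = true ∧
    Nat.beq (forest.lab (tab.walk (genPts.getD 1 0) wordA.reverse)) 2 = true ∧
    (List.range 10).all (fun i => (List.range 10).all fun j =>
      (Nat.beq (tab.walk (genPts.getD j 0) [i]) (genPts.getD j 0)) == outCom i j) = true := by
  decide +kernel

theorem outNodes_ok {N : Node} (h : N ∈ outNodes) : N.ok = true ∧ N.cands = true := by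
  simp only [outNodes, List.mem_cons, List.not_mem_nil, or_false] at h
  rcases h with rfl | rfl | rfl | rfl | rfl | rfl | rfl | rfl | rfl | rfl | rfl | rfl | rfl | rfl |
    rfl | rfl | rfl | rfl | rfl
  exacts [⟨node0_ok, node0_cands⟩, ⟨node1_ok, node1_cands⟩, ⟨node2_ok, node2_cands⟩,
    ⟨node3_ok, node3_cands⟩, ⟨node4_ok, node4_cands⟩, ⟨node5_ok, node5_cands⟩,
    ⟨node6_ok, node6_cands⟩, ⟨node7_ok, node7_cands⟩, ⟨node8_ok, node8_cands⟩,
    ⟨node9_ok, node9_cands⟩, ⟨node10_ok, node10_cands⟩, ⟨node11_ok, node11_cands⟩,
    ⟨node12_ok, node12_cands⟩, ⟨node13_ok, node13_cands⟩, ⟨node14_ok, node14_cands⟩,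
    ⟨node15_ok, node15_cands⟩, ⟨node16_ok, node16_cands⟩, ⟨node17_ok, node17_cands⟩,
    ⟨node18_ok, node18_cands⟩]

theorem genPts_lt (i : ℕ) : genPts.getD i 0 < tab.n := by
  by_cases h : i < genPts.length
  · rw [List.getD_eq_getElem _ _ h]
    have h' := gen_pts.2.1
    simp only [List.all_eq_true, Nat.blt_eq] at h'
    exact h' _ (List.getElem_mem h)
  · rw [List.getD_eq_default _ _ (Nat.le_of_not_lt h)]
    exact zero_lt

/-- The point of a generator. -/
def gp (i : ℕ) : Fin tab.n := ⟨genPts.getD i 0, genPts_lt i⟩

theorem wordA_lt : ∀ g ∈ wordA, g < 10 := fun g hg => by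
  simpa [Nat.blt_eq] using List.all_eq_true.1 wordA_letters g hg

theorem phi_wordA : phi (act fiGen wordA) origin = gp 0 := by
  refine Fin.ext ?_
  rw [realised.act_apply wordA_lt]
  exact (Nat.eq_of_beq_eq_true gen_pts.2.2.1).symm

/-- The generators are transpositions of their points. -/
theorem gen_refl : ∀ i, i < 10 → fiGen i = refl (gp i) := by
  have hE := edge_words
  have hW := gen_pts.2.2.2.1
  simp only [List.all_cons, List.all_nil, Bool.and_true, Bool.and_eq_true, Nat.beq_eq] at hE hW
  obtain ⟨h01, h12, h23, h34, h45, h56, h67, h38, h89⟩ := hE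
  obtain ⟨w01, w12, w23, w34, w45, w56, w67, w38, w89⟩ := hW
  have step' : ∀ a b, a < 10 → b < 10 → sameBase [b, a, b, a, b, a] [] = true →
      tab.walk (genPts.getD a 0) [b, a] = genPts.getD b 0 →
      fiGen a = refl (gp a) → fiGen b = refl (gp b) := by
    intro a b ha hb h w hr
    have e := eq_of_base h
    rw [show [b, a, b, a, b, a] = (List.replicate 3 [b, a]).flatten from rfl, act_flatten,
      act_pair, act_nil] at e
    refine (braid_conj (fiGen_sq a ha) (fiGen_sq b hb) e).trans ?_
    have hp : phi (fiGen a * fiGen b) (gp a) = gp b := by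
      refine Fin.ext ?_
      rw [← act_pair fiGen b a, realised.act_apply (by
        simp only [List.mem_cons, List.not_mem_nil, or_false]
        rintro g (rfl | rfl) <;> assumption)]
      exact w
    generalize fiGen a * fiGen b = m at hp
    rw [hr, refl_conj, hp]
  have c0 : fiGen 0 = refl (gp 0) := by
    rw [refl_of phi_wordA]
    exact first_conj
  have c1 := step' 0 1 (by norm_num) (by norm_num) h01 w01 c0
  have c2 := step' 1 2 (by norm_num) (by norm_num) h12 w12 c1
  have c3 := step' 2 3 (by norm_num) (by norm_num) h23 w23 c2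
  have c4 := step' 3 4 (by norm_num) (by norm_num) h34 w34 c3
  have c5 := step' 4 5 (by norm_num) (by norm_num) h45 w45 c4
  have c6 := step' 5 6 (by norm_num) (by norm_num) h56 w56 c5
  have c7 := step' 6 7 (by norm_num) (by norm_num) h67 w67 c6
  have c8 := step' 3 8 (by norm_num) (by norm_num) h38 w38 c3
  have c9 := step' 8 9 (by norm_num) (by norm_num) h89 w89 c8
  intro i hi
  interval_cases i
  exacts [c0, c1, c2, c3, c4, c5, c6, c7, c8, c9]

theorem gp_pattern {i j : ℕ} (hi : i < 10) (hj : j < 10) :
    phi (refl (gp i)) (gp j) = gp j ↔ outCom i j = true := by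
  have h := gen_pts.2.2.2.2.2
  simp only [List.all_eq_true, List.mem_range, beq_iff_eq] at h
  rw [← h i hi j hj, Nat.beq_eq, ← gen_refl i hi]
  conv_lhs => rw [Fin.ext_iff, realised.app i hi]
  rfl

/-- A word of a search stands for the transposition of its point. -/
theorem known_word {e : ℕ × List ℕ}
    (h : (pointList.any fun p => Nat.beq p.1 e.1 && decide (p.2.1 = e.2)) = true) :
    ∃ hq : e.1 < tab.n, act fiGen e.2 = refl ⟨e.1, hq⟩ ∧ ∀ g ∈ e.2, g < 10 := by
  simp only [List.any_eq_true, Bool.and_eq_true, Nat.beq_eq, decide_eq_true_eq] at h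
  obtain ⟨p, hp, h1, h2⟩ := h
  obtain ⟨hq, e1, e2⟩ := act_point (List.all_eq_true.1 point_words p hp)
  refine ⟨h1 ▸ hq, ?_, h2 ▸ e2⟩
  rw [← h2, e1]
  exact congrArg refl (Fin.ext h1)

/-- The points fixed by the central involution with a label other than zero carry the label one. -/
theorem roots_t : (Nat.beq (tab.walk (forest.roots.getD 1 0) wordT) (forest.roots.getD 1 0) &&
    !(Nat.beq (tab.walk (forest.roots.getD 2 0) wordT) (forest.roots.getD 2 0)) &&
    wordT.all fun g => Nat.blt g 10) = true := by
  decide +kernel

theorem lab_fix_t (r : Fin tab.n) (hr : r ≠ origin) :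
    (phi eltT r = r → forest.lab r.val = 1) ∧ (phi eltT r ≠ r → forest.lab r.val = 2) := by
  obtain ⟨a, ha, har⟩ := forest_ok.reach realised r
  have ha' : a ∈ subH := ha
  have ht : ∀ p, phi eltT (phi a p) = phi a (phi eltT p) := fun p => by
    rw [← Equiv.Perm.mul_apply, ← map_mul, t_central ha', map_mul, Equiv.Perm.mul_apply]
  have hroot := roots_t
  simp only [Bool.and_eq_true, Bool.not_eq_true', Nat.beq_eq, List.all_eq_true, Nat.blt_eq] at hroot
  obtain ⟨⟨h1, h2⟩, hT⟩ := hroot
  have hlt : forest.lab r.val < 3 := forest_zero.1 ▸ (forest_ok.spec r.isLt).2.1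
  have h0 : forest.lab r.val ≠ 0 := by
    intro h
    simp only [h, forest_zero.2.2.1] at har
    exact hr (har.symm.trans (mem_subH_iff.1 ha'))
  have hval : ∀ p : Fin tab.n, (phi eltT p).val = tab.walk p.val wordT :=
    fun p => realised.act_apply hT p
  constructor
  · intro hfix
    by_contra h
    have h2' : forest.lab r.val = 2 := by omega
    simp only [h2'] at har
    rw [← har, ht] at hfix
    have := congrArg Fin.val ((phi a).injective hfix)
    rw [hval] at this
    rw [show Nat.beq _ _ = true from Nat.beq_eq ▸ this] at h2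
    exact Bool.noConfusion h2
  · intro hmove
    by_contra h
    have h1' : forest.lab r.val = 1 := by omega
    simp only [h1'] at har
    apply hmove
    rw [← har, ht]
    exact congrArg (phi a) (Fin.ext ((hval _).trans h1))

/-- Configurations with the diagram of the generators are conjugate to the generators. -/
theorem rigid (q : ℕ → Fin tab.n) (hne : ∀ i j, i < 10 → j < 10 → i ≠ j → q i ≠ q j)
    (hpat : ∀ i j, i < 10 → j < 10 → i ≠ j →
      (phi (refl (q i)) (q j) = q j ↔ outCom i j = true)) :
    ∃ h, ∀ i, i < 10 → phi h (q i) = gp i := by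
  obtain ⟨ho1, ho2, ho0, ho1'⟩ := order_ok
  simp only [List.all_eq_true, List.mem_range, Bool.and_eq_true, Nat.blt_eq,
    decide_eq_true_eq] at ho1
  have base : ∃ h, phi h (q 0) = gp 0 ∧ phi h (q 1) = gp 1 := by
    set A := act fiGen wordA with hA
    let h1 := A * (toPoint (q 0))⁻¹
    have h10 : phi h1 (q 0) = gp 0 := by
      rw [map_mul, Equiv.Perm.mul_apply, map_inv, Equiv.Perm.inv_def,
        (Equiv.symm_apply_eq _).2 (phi_toPoint (q 0)).symm]
      exact phi_wordA
    set r := phi A⁻¹ (phi h1 (q 1)) with hr
    have hinv : phi A⁻¹ (gp 0) = origin := by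
      rw [map_inv, Equiv.Perm.inv_def, Equiv.symm_apply_eq, phi_wordA]
    have hne' : r ≠ origin := by
      rw [← hinv, ← h10]
      exact fun e => hne 1 0 (by norm_num) (by norm_num) (by norm_num)
        ((phi h1).injective ((phi A⁻¹).injective e))
    have hmove : phi eltT r ≠ r := by
      intro e
      have h01 : phi (refl (q 0)) (q 1) = q 1 := by
        rw [← refl_origin, ← hinv, ← h10, ← refl_conj, ← refl_conj] at e
        simp only [r, map_mul, map_inv, Equiv.Perm.mul_apply, Equiv.Perm.inv_def,
          Equiv.symm_symm, Equiv.symm_apply_apply, Equiv.apply_symm_apply,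
          EmbeddingLike.apply_eq_iff_eq] at e
        exact e
      have := (hpat 0 1 (by norm_num) (by norm_num) (by norm_num)).1 h01
      exact absurd this (by decide)
    have hlab := (lab_fix_t r hne').2 hmove
    obtain ⟨a, ha, har⟩ := forest_ok.reach realised r
    obtain ⟨b, hb, hbr⟩ := forest_ok.reach realised (phi A⁻¹ (gp 1))
    have hlab2 : forest.lab (phi A⁻¹ (gp 1)).val = 2 := by
      rw [hA, ← act_reverse fiGen_sq wordA_lt,
        realised.act_apply (fun g hg => wordA_lt g (List.mem_reverse.1 hg))]
      exact Nat.eq_of_beq_eq_true gen_pts.2.2.2.2.1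
    simp only [hlab] at har
    simp only [hlab2] at hbr
    refine ⟨A * (b * a⁻¹) * A⁻¹ * h1, ?_, ?_⟩
    · have hm : phi (b * a⁻¹) origin = origin :=
        mem_subH_iff.1 (Subgroup.mul_mem _ hb (Subgroup.inv_mem _ ha))
      rw [map_mul, Equiv.Perm.mul_apply, h10, map_mul, Equiv.Perm.mul_apply, hinv, map_mul,
        Equiv.Perm.mul_apply, hm]
      exact phi_wordA
    · rw [map_mul, Equiv.Perm.mul_apply, map_mul, Equiv.Perm.mul_apply, map_mul,
        Equiv.Perm.mul_apply, ← hr, map_mul, Equiv.Perm.mul_apply, map_inv phi a,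
        Equiv.Perm.inv_def, (Equiv.symm_apply_eq _).2 har.symm, hbr, ← Equiv.Perm.mul_apply,
        ← map_mul, mul_inv_cancel, map_one, Equiv.Perm.one_apply]
  have main : ∀ k, 2 ≤ k → k ≤ 10 → ∃ h, ((List.range k).map fun j => (phi h (q (ordAt j))).val) =
      finalPts ∨ k < 10 ∧ ∃ N ∈ outNodes,
        N.pts = (List.range k).map fun j => (phi h (q (ordAt j))).val := by
    intro k hk2 hk
    induction k, hk2 using Nat.le_induction with
    | base =>
      obtain ⟨h, h0, h1⟩ := base
      have hs := nodes_start
      simp only [List.any_eq_true, decide_eq_true_eq] at hs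
      obtain ⟨N, hN, hpts⟩ := hs
      refine ⟨h, Or.inr ⟨by norm_num, N, hN, hpts.trans ?_⟩⟩
      simp only [finalPts, List.range_succ, List.range_zero, List.nil_append, List.map_append,
        List.map_cons, List.map_nil, ho0, ho1', h0, h1]
      rfl
    | succ k hk2 ih =>
      obtain ⟨h, hh | ⟨-, N, hN, hpts⟩⟩ := ih (by omega)
      · have := congrArg List.length hh
        simp [finalPts] at this
        omega
      · have hlen : N.fixed.length = k := by
          simpa [Node.pts] using congrArg List.length hpts
        have hshape := List.all_eq_true.1 nodes_shape N hN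
        simp only [Bool.and_eq_true, decide_eq_true_eq] at hshape
        obtain ⟨⟨hwords, hpattern⟩, horb⟩ := hshape
        set r := phi h (q (ordAt k)) with hr
        have hp : N.patOk r.val = true := by
          simp only [Node.patOk, List.all_eq_true, List.mem_range, Bool.and_eq_true,
            Bool.not_eq_true', beq_iff_eq]
          intro j hj
          have hjk : j < k := hlen ▸ hj
          have hj10 := (ho1 j (by omega)).1
          have hk10 := (ho1 k (by omega)).1
          have hdist : ordAt j ≠ ordAt k := fun e => by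
            have := (ho1 k (by omega)).2 j (by omega) e
            omega
          rw [List.getD_eq_getElem _ _ hj, hpattern,
            List.getD_eq_getElem _ _ (by simpa using hj), List.getElem_map, List.getElem_range, hlen]
          obtain ⟨hq, hw, hl⟩ := known_word
            (List.all_eq_true.1 hwords _ (List.getElem_mem hj))
          have hpt : (⟨(N.fixed[j]).1, hq⟩ : Fin tab.n) = phi h (q (ordAt j)) := by
            refine Fin.ext ?_
            have := List.getElem_of_eq hpts (i := j) (by simpa [Node.pts] using hj)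
            simpa [Node.pts] using this
          rw [hpt] at hw
          refine ⟨?_, ?_⟩
          · refine Bool.eq_false_iff.2 fun e => hdist ?_
            by_contra hc
            exact hne _ _ hj10 hk10 hc ((phi h).injective
              (hpt.symm.trans (Fin.ext (Nat.eq_of_beq_eq_true e).symm)))
          · rw [Bool.eq_iff_iff, Nat.beq_eq, ← hpat _ _ hj10 hk10 hdist,
              ← realised.act_apply hl r, hw, ← Fin.ext_iff, hr, ← refl_conj, map_mul, map_mul,
              Equiv.Perm.mul_apply, Equiv.Perm.mul_apply, map_inv, Equiv.Perm.inv_def,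
              Equiv.symm_apply_apply, EmbeddingLike.apply_eq_iff_eq]
        obtain ⟨hok, hcand⟩ := outNodes_ok hN
        obtain ⟨o, ho, m, hm, hmr⟩ := Node.solve hok hcand r hp
        have ho' := List.all_eq_true.1 horb o ho
        have hnew : N.pts ++ [o.1] =
            (List.range (k + 1)).map fun j => (phi (m * h) (q (ordAt j))).val := by
          rw [List.range_succ, List.map_append, List.map_cons, List.map_nil, hpts]
          congr 1
          · refine List.map_congr_left fun j hj => ?_
            rw [map_mul, Equiv.Perm.mul_apply]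
            refine (congrArg Fin.val (hm _ ?_)).symm
            rw [show N.fixed.map (fun e => e.1) = N.pts from rfl, hpts]
            exact List.mem_map.2 ⟨j, hj, rfl⟩
          · rw [map_mul, Equiv.Perm.mul_apply, ← hr, hmr]
        simp only [Bool.or_eq_true, Bool.and_eq_true, decide_eq_true_eq, List.any_eq_true] at ho'
        rcases ho' with e | ⟨hl, M, hM, e⟩
        · exact ⟨m * h, Or.inl (hnew.symm.trans e)⟩
        · refine ⟨m * h, Or.inr ⟨?_, M, hM, e.trans hnew⟩⟩
          rw [hnew] at hl
          simpa using hl
  obtain ⟨h, hh | ⟨hlt, -⟩⟩ := main 10 (by norm_num) le_rfl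
  · refine ⟨h, fun i hi => Fin.ext ?_⟩
    simp only [List.all_eq_true, List.any_eq_true, List.mem_range, Nat.beq_eq] at ho2
    obtain ⟨k, hk, rfl⟩ := ho2 i hi
    have := List.getElem_of_eq hh (i := k) (by simpa using hk)
    simpa [finalPts, gp] using this
  · omega

end CfsgLib.Fi23P
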