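import Cfsg.Agent.Lib.Fi23P.Pres
import Cfsg.Agent.Lib.Fi23P.PermData

/-!
The checks of the action on 31671 points.
-/

set_option autoImplicit false
set_option maxRecDepth 100000

namespace CfsgLib.Fi23P

open CfsgLib.PresCert Cfsg.Spor

/-- The images under a generator. -/
noncomputable def fimg (g i : ℕ) : ℕ :=
  (Bool.rec (motive := fun _ => ℕ) (Bool.rec (motive := fun _ => ℕ) (Bool.rec (motive := fun _ => ℕ) (Bool.rec (motive := fun _ => ℕ) (col9 i) (col8 i) (Nat.beq g 8)) (col7 i) (Nat.beq g 7)) (Bool.rec (motive := fun _ => ℕ) (col6 i) (col5 i) (Nat.beq g 5)) (Nat.blt g 7)) (Bool.rec (motive := fun _ => ℕ) (Bool.rec (motive := fun _ => ℕ) (Bool.rec (motive := fun _ => ℕ) (col4 i) (col3 i) (Nat.beq g 3)) (col2 i) (Nat.beq g 2)) (Bool.rec (motive := fun _ => ℕ) (col1 i) (col0 i) (Nat.beq g 0)) (Nat.blt g 2)) (Nat.blt g 5))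

/-- The table. -/
noncomputable def tab : Fast.Tab where
  ng := 10
  n := 31671
  img := fimg

/-- The short relations. -/
def relShort : List (List ℕ) := [
  [0, 0],
  [0, 1, 0, 1, 0, 1],
  [0, 2, 0, 2],
  [0, 3, 0, 3],
  [0, 4, 0, 4],
  [0, 5, 0, 5],
  [0, 6, 0, 6],
  [0, 7, 0, 7],
  [0, 8, 0, 8],
  [0, 9, 0, 9],
  [1, 1],
  [1, 2, 1, 2, 1, 2],
  [1, 3, 1, 3],
  [1, 4, 1, 4],
  [1, 5, 1, 5],
  [1, 6, 1, 6],
  [1, 7, 1, 7],
  [1, 8, 1, 8],
  [1, 9, 1, 9],
  [2, 2],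
  [2, 3, 2, 3, 2, 3],
  [2, 4, 2, 4],
  [2, 5, 2, 5],
  [2, 6, 2, 6],
  [2, 7, 2, 7],
  [2, 8, 2, 8],
  [2, 9, 2, 9],
  [3, 3],
  [3, 4, 3, 4, 3, 4],
  [3, 5, 3, 5],
  [3, 6, 3, 6],
  [3, 7, 3, 7],
  [3, 8, 3, 8, 3, 8],
  [3, 9, 3, 9],
  [4, 4],
  [4, 5, 4, 5, 4, 5],
  [4, 6, 4, 6],
  [4, 7, 4, 7],
  [4, 8, 4, 8],
  [4, 9, 4, 9],
  [5, 5],
  [5, 6, 5, 6, 5, 6],
  [5, 7, 5, 7],
  [5, 8, 5, 8],
  [5, 9, 5, 9],
  [6, 6],
  [6, 7, 6, 7, 6, 7],
  [6, 8, 6, 8],
  [6, 9, 6, 9],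
  [7, 7],
  [7, 8, 7, 8],
  [7, 9, 7, 9],
  [8, 8],
  [8, 9, 8, 9, 8, 9],
  [9, 9]]

/-- The product whose tenth power is a relation. -/
def wordU : List ℕ := [3, 2, 1, 3, 4, 5, 3, 8, 9]

/-- The product whose ninth power is a relation. -/
def wordV : List ℕ := [0, 1, 2, 3, 4, 5, 8]

/-- The relations. -/
def relData : List (List ℕ) :=
  relShort ++ [(List.replicate 10 wordU).flatten, (List.replicate 9 wordV).flatten]

/-- The image under a word, by a recursor. -/
noncomputable def fwalk (w : List ℕ) : ℕ → ℕ :=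
  List.rec (motive := fun _ => ℕ → ℕ) (fun j => j) (fun g _ ih j => ih (fimg g j)) w

theorem fwalk_eq : ∀ (w : List ℕ) (i : ℕ), fwalk w i = tab.walk i w
  | [], _ => rfl
  | g :: w, i => fwalk_eq w (fimg g i)

/-- The relations at a point. -/
noncomputable def relAt (i : ℕ) : Bool :=
  relShort.all (fun w => Nat.beq (fwalk w i) i) &&
    Nat.beq (colU i) (fwalk wordU i) && Nat.beq (colU2 i) (colU (colU i)) &&
    Nat.beq (colU2^[5] i) i && Nat.beq (colV i) (fwalk wordV i) && Nat.beq (colV^[9] i) i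

/-- The relations on a block of points. -/
noncomputable def relBlock (b : ℕ) : Bool :=
  (List.range 1000).all fun j =>
    let i := 1000 * b + j
    !(Nat.blt i tab.n) || relAt i

/-- The words of the generators of the point stabiliser. -/
def sHw : List (List ℕ) := [[0], [1], [2], [3], [4], [5], [6], [8], [9]]

/-- The orbits of the stabiliser. -/
noncomputable def forest : Fast.Forest where
  words := sHw
  lab := labels
  depth := subDepth
  parent p := subPar p / 16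
  via p := subPar p % 16
  roots := subRoots

/-- All checks on a block of points. -/
noncomputable def checkBlock (b : ℕ) : Bool :=
  tab.invBlock b && relBlock b && Fast.treeBlock tab treePar b && Fast.forestBlock tab forest b

end CfsgLib.Fi23P
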