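import Cfsg.Agent.Lib.Fi23P.Cover

/-!
The 3-transpositions.
-/

set_option autoImplicit false
set_option maxRecDepth 100000

namespace CfsgLib.Fi23P

open CfsgLib.PresCert Cfsg.Spor
open CfsgLib.PresCert.Fast

attribute [local irreducible] relShort levels wordA baseL

theorem t_order : orderOf eltT = 2 :=
  orderOf_eq_prime (by rw [pow_two]; exact t_sq) t_ne_one

/-- A conjugate is the conjugate by a root word, conjugated by the stabiliser. -/
theorem conj_form (m : Cfsg.Spor.Fi23) : ∃ k, k < 3 ∧ ∃ h ∈ subH,
    m * eltT * m⁻¹ = h * (act fiGen (rootWords.getD k []) * eltT * (act fiGen (rootWords.getD k []))⁻¹) * h⁻¹ ∧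
      (k = 0 → m ∈ subH) := by
  set p := phi m ⟨0, zero_lt⟩ with hp
  set k := forest.lab p.val with hk
  have hk3 : k < 3 := forest_zero.1 ▸ (forest_ok.spec p.isLt).2.1
  obtain ⟨h, hh, e⟩ := forest_ok.reach realised p
  have hr := root_words.1
  simp only [List.all_eq_true, List.mem_range, Bool.and_eq_true, Nat.beq_eq, Nat.blt_eq] at hr
  have e2 : phi (act fiGen (rootWords.getD k [])) ⟨0, zero_lt⟩ =
      ⟨forest.roots.getD k 0, (forest_ok.root (forest_ok.spec p.isLt).2.1).1⟩ :=
    Fin.ext (by rw [realised.act_apply (hr k hk3).2]; exact (hr k hk3).1)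
  rw [← e2, ← Equiv.Perm.mul_apply, ← map_mul] at e
  have hmem : (h * act fiGen (rootWords.getD k []))⁻¹ * m ∈ subH := by
    rw [subH_eq]
    intro i hi
    have hi0 : i = ⟨0, zero_lt⟩ := Fin.ext (List.mem_singleton.1 hi)
    subst hi0
    rw [map_mul, Equiv.Perm.mul_apply, map_inv, Equiv.Perm.inv_def, Equiv.symm_apply_eq]
    exact e.symm
  have hc := t_central hmem
  refine ⟨k, hk3, h, hh, ?_, fun h0 => ?_⟩
  · set n := (h * act fiGen (rootWords.getD k []))⁻¹ * m with hn
    have hm : m = h * act fiGen (rootWords.getD k []) * n := by rw [hn]; group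
    rw [hm]
    calc h * act fiGen (rootWords.getD k []) * n * eltT * (h * act fiGen (rootWords.getD k []) * n)⁻¹
        = h * act fiGen (rootWords.getD k []) * (n * eltT) * n⁻¹ *
            (h * act fiGen (rootWords.getD k []))⁻¹ := by group
      _ = h * act fiGen (rootWords.getD k []) * (eltT * n) * n⁻¹ *
            (h * act fiGen (rootWords.getD k []))⁻¹ := by rw [hc]
      _ = _ := by group
  · rw [h0, show act fiGen (rootWords.getD 0 []) = (1 : Cfsg.Spor.Fi23) by
      rw [show rootWords.getD 0 [] = [] by decide +kernel, act_nil], mul_one] at hmem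
    have := Subgroup.mul_mem _ hh hmem
    rwa [mul_inv_cancel_left] at this

theorem prod_word {k : ℕ} (hk : k < 3) : act fiGen (prodWord k) =
    eltT * (act fiGen (rootWords.getD k []) * eltT * (act fiGen (rootWords.getD k []))⁻¹) := by
  have hr := root_words.1
  simp only [List.all_eq_true, List.mem_range, Bool.and_eq_true, Nat.blt_eq] at hr
  rw [prodWord, act_append, act_append, act_append, act_reverse fiGen_sq (hr k hk).2]
  simp only [eltT, mul_assoc]

theorem prod_pow (m : Cfsg.Spor.Fi23) :
    (eltT * (m * eltT * m⁻¹)) ^ 2 = 1 ∨ (eltT * (m * eltT * m⁻¹)) ^ 3 = 1 := by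
  obtain ⟨k, hk, h, hh, e, h0⟩ := conj_form m
  have e' : eltT * (m * eltT * m⁻¹) = h * act fiGen (prodWord k) * h⁻¹ := by
    rw [e, prod_word hk]
    calc eltT * (h * (act fiGen (rootWords.getD k []) * eltT * (act fiGen (rootWords.getD k []))⁻¹) * h⁻¹)
        = (eltT * h) * ((act fiGen (rootWords.getD k []) * eltT * (act fiGen (rootWords.getD k []))⁻¹) * h⁻¹) := by
          group
      _ = (h * eltT) * ((act fiGen (rootWords.getD k []) * eltT * (act fiGen (rootWords.getD k []))⁻¹) * h⁻¹) := by
          rw [t_central hh]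
      _ = _ := by group
  rw [e', conj_pow, conj_pow]
  obtain rfl | rfl | rfl : k = 0 ∨ k = 1 ∨ k = 2 := by omega
  · left
    rw [show act fiGen (prodWord 0) = eltT * eltT from by rw [prod_word hk,
      show act fiGen (rootWords.getD 0 []) = (1 : Cfsg.Spor.Fi23) by
      rw [show rootWords.getD 0 [] = [] by decide +kernel, act_nil], one_mul, inv_one, mul_one],
      t_sq, one_pow, mul_one, mul_inv_cancel]
  · left
    have h2 := eq_of_base root_words.2.1
    rw [act_append, act_nil, ← pow_two] at h2
    rw [h2, mul_one, mul_inv_cancel]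
  · right
    have h2 := eq_of_base root_words.2.2.1
    rw [act_append, act_append, act_nil, ← mul_assoc] at h2
    rw [pow_succ, pow_two, h2, mul_one, mul_inv_cancel]

theorem centralizer_t : Subgroup.centralizer ({eltT} : Set Cfsg.Spor.Fi23) = subH := by
  refine le_antisymm (fun m hm => ?_) fun m hm =>
    Subgroup.mem_centralizer_singleton_iff.2 (t_central hm).symm
  obtain ⟨k, hk, h, hh, e, h0⟩ := conj_form m
  rw [Subgroup.mem_centralizer_singleton_iff] at hm
  have e2 : act fiGen (rootWords.getD k []) * eltT * (act fiGen (rootWords.getD k []))⁻¹ = eltT := by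
    have e3 : m * eltT * m⁻¹ = eltT := by rw [hm]; group
    rw [e3, eq_mul_inv_iff_mul_eq] at e
    calc _ = h⁻¹ * (h * (act fiGen (rootWords.getD k []) * eltT * (act fiGen (rootWords.getD k []))⁻¹)) := by group
      _ = h⁻¹ * (eltT * h) := by rw [← e]
      _ = eltT := by rw [t_central hh]; group
  have hbad : ∀ j, j = 1 ∨ j = 2 → k ≠ j := by
    rintro j hj rfl
    have h1 : act fiGen (prodWord k) = act fiGen ([] : List ℕ) := by
      rw [prod_word hk, e2, t_sq, act_nil]
    have hr := root_words.2.2.2
    have hs : sameBase (prodWord k) [] = true := by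
      simp only [sameBase, Bool.and_eq_true, List.all_eq_true, Nat.beq_eq, Nat.blt_eq]
      have hw : ∀ g ∈ prodWord k, g < 10 := by rcases hj with rfl | rfl <;> decide +kernel
      refine ⟨⟨fun b hb => ?_, hw⟩, fun g hg => absurd hg List.not_mem_nil⟩
      have hb2 : b < tab.n := by
        have h : baseL.all (fun b => Nat.blt b tab.n) = true := by decide +kernel
        exact Nat.blt_eq.mp (List.all_eq_true.1 h b hb)
      have := congrArg (fun z => ((phi z ⟨b, hb2⟩ : Fin tab.n) : ℕ)) h1
      simpa [realised.act_apply hw, act_nil, Fast.Tab.walk] using this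
    rcases hj with rfl | rfl <;> simp [hs] at hr
  exact h0 (by have := hbad 1 (Or.inl rfl); have := hbad 2 (Or.inr rfl); omega)

/-- The 3-transpositions. -/
def transp : Set Cfsg.Spor.Fi23 := conjugatesOf eltT

theorem transp_class : Cfsg.IsThreeTranspositionClass transp := by
  haveI := fi_le.1
  refine ⟨⟨fun d hd => ?_, fun d hd e he => ?_⟩, ⟨eltT, mem_conjugatesOf_self, rfl⟩, ?_⟩
  · obtain ⟨c, rfl⟩ := isConj_iff.1 hd
    rw [← MulAut.conj_apply, MulEquiv.orderOf_eq, t_order]
  · obtain ⟨c, rfl⟩ := isConj_iff.1 hd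
    obtain ⟨c', rfl⟩ := isConj_iff.1 he
    have key : c * eltT * c⁻¹ * (c' * eltT * c'⁻¹) =
        c * (eltT * ((c⁻¹ * c') * eltT * (c⁻¹ * c')⁻¹)) * c⁻¹ := by group
    rw [key, conj_pow, conj_pow]
    exact (prod_pow (c⁻¹ * c')).imp (fun h => by rw [h]; group) (fun h => by rw [h]; group)
  · haveI := simple
    have hn : (Subgroup.closure transp).Normal := by
      rw [transp]
      refine ⟨fun n hn g => ?_⟩
      have hmap : (Subgroup.closure (conjugatesOf eltT)).map (MulAut.conj g).toMonoidHom ≤
          Subgroup.closure (conjugatesOf eltT) := by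
        rw [MonoidHom.map_closure, Subgroup.closure_le]
        rintro _ ⟨x, hx, rfl⟩
        refine Subgroup.subset_closure ?_
        exact IsConj.trans hx (isConj_iff.2 ⟨g, rfl⟩)
      exact hmap ⟨n, hn, rfl⟩
    refine (hn.eq_bot_or_eq_top).resolve_left fun h => ?_
    have := Subgroup.subset_closure (k := transp) (show eltT ∈ transp from mem_conjugatesOf_self)
    rw [h, SetLike.mem_coe, Subgroup.mem_bot] at this
    exact t_ne_one this

theorem card_conjugates {G : Type*} [Group G] [Finite G] (x : G) :
    Nat.card (conjugatesOf x) = (Subgroup.centralizer ({x} : Set G)).index := by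
  have e : MulAction.orbit (ConjAct G) x = conjugatesOf x := by
    ext y
    rw [ConjAct.mem_orbit_conjAct, isConj_comm]
    rfl
  rw [← e, Nat.card_coe_set_eq, ← MulAction.index_stabilizer,
    ConjAct.stabilizer_eq_centralizer]
  rfl

theorem card_transp : Nat.card transp = 31671 := by
  haveI := fi_le.1
  rw [transp, card_conjugates, centralizer_t, subH_spec.1]

theorem double_cover_congr {G₁ G₂ : Type*} [Group G₁] [Finite G₁] [Group G₂] {P : Type*} [Group P]
    (e : G₁ ≃* G₂) (h : Cfsg.IsNonsplitDoubleCover G₂ P) : Cfsg.IsNonsplitDoubleCover G₁ P := by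
  obtain ⟨h1, ⟨f⟩, h3⟩ := h
  haveI : Finite G₂ := Finite.of_equiv G₁ e.toEquiv
  have he : (Subgroup.center G₁).map e.toMonoidHom = Subgroup.center G₂ := by
    ext z
    rw [Subgroup.mem_map_equiv, Subgroup.mem_center_iff, Subgroup.mem_center_iff]
    refine ⟨fun hz g => e.symm.injective ?_, fun hz g => e.injective ?_⟩
    · rw [map_mul, map_mul, hz]
    · rw [map_mul, map_mul, e.apply_symm_apply, hz]
  refine ⟨?_, ⟨(QuotientGroup.congr _ _ e he).trans f⟩, fun L hL => h3 (L.map e.toMonoidHom) ?_⟩
  · rw [← h1, ← he, Subgroup.card_map_of_injective e.injective]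
  · rw [← he]
    refine Subgroup.isComplement'_of_card_mul_and_disjoint ?_ ?_
    · rw [Subgroup.card_map_of_injective e.injective, Subgroup.card_map_of_injective e.injective,
        hL.card_mul, Nat.card_congr e.toEquiv]
    · exact Subgroup.disjoint_map e.injective hL.disjoint

theorem transp_centralizer {d : Cfsg.Spor.Fi23} (hd : d ∈ transp) :
    Cfsg.IsNonsplitDoubleCover (Subgroup.centralizer ({d} : Set Cfsg.Spor.Fi23))
      Cfsg.Spor.Fi22 := by
  haveI := card_fi.1
  obtain ⟨c, rfl⟩ := isConj_iff.1 hd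
  have e : Subgroup.centralizer ({c * eltT * c⁻¹} : Set Cfsg.Spor.Fi23) =
      subH.map (MulAut.conj c).toMonoidHom := by
    ext z
    rw [Subgroup.mem_map_equiv, ← centralizer_t, Subgroup.mem_centralizer_singleton_iff,
      Subgroup.mem_centralizer_singleton_iff, MulAut.conj_symm_apply]
    constructor
    · intro h
      calc c⁻¹ * z * c * eltT = c⁻¹ * (z * (c * eltT * c⁻¹)) * c := by group
        _ = c⁻¹ * (c * eltT * c⁻¹ * z) * c := by rw [h]
        _ = _ := by group
    · intro h
      calc z * (c * eltT * c⁻¹) = c * (c⁻¹ * z * c * eltT) * c⁻¹ := by group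
        _ = c * (eltT * (c⁻¹ * z * c)) * c⁻¹ := by rw [h]
        _ = _ := by group
  exact double_cover_congr ((MulEquiv.subgroupCongr e).trans
    ((MulAut.conj c).subgroupMap subH).symm) double_cover

end CfsgLib.Fi23P
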